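import Mathlib
import Cfsg.Agent.Lib.Helper31.ThompsonTransfer
import Cfsg.Agent.S0221

/-!
# Groups with an involution whose centralizer is dihedral of order 8: local analysis
-/

set_option autoImplicit false
set_option linter.unusedSectionVars false
set_option linter.style.haveILetI false

namespace Cfsg.Agent.Helper4.D8

open DihedralGroup

/-- the linear character of `D₈` with kernel `⟨r², s⟩` -/
def beta0 : DihedralGroup 4 →* ℤˣ where
  toFun q := match q with
    | r i => (-1) ^ i.val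
    | sr i => (-1) ^ i.val
  map_one' := by decide
  map_mul' := by decide

theorem center_d8 : ∀ q : DihedralGroup 4, (∀ p : DihedralGroup 4, q * p = p * q) → q = 1 ∨ q = r 2 := by
  decide

theorem centralizer_r1 : ∀ q : DihedralGroup 4, q * r 1 = r 1 * q → ∃ i : ZMod 4, q = r i := by decide

theorem inverts_r1 : ∀ q : DihedralGroup 4, q * r 1 * q⁻¹ = (r 1)⁻¹ → ∃ i : ZMod 4, q = sr i := by
  decide

theorem cases_d8 : ∀ q : DihedralGroup 4, (∃ i : ZMod 4, q = r i) ∨ ∃ i : ZMod 4, q = sr i := by decide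

theorem r_eq_pow : ∀ i : ZMod 4, (r i : DihedralGroup 4) = r 1 ^ i.val := by decide

theorem invol_r : ∀ i : ZMod 4, (r i : DihedralGroup 4) * r i = 1 → r i ≠ (1 : DihedralGroup 4) → i = 2 := by
  decide

theorem sr_mul_self : ∀ i : ZMod 4, (sr i : DihedralGroup 4) * sr i = 1 := by decide

theorem sr_ne_one : ∀ i : ZMod 4, (sr i : DihedralGroup 4) ≠ 1 := by decide

theorem sr0_conj_r : ∀ i : ZMod 4, (sr 0 : DihedralGroup 4) * r i * (sr 0)⁻¹ = (r i)⁻¹ := by decide

theorem sr0_inv_mul_sr : ∀ i : ZMod 4, (sr 0 : DihedralGroup 4)⁻¹ * sr i = r i := by decide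

theorem r_sq : ∀ i : ZMod 4, beta0 (r i) ≠ 1 → (r i : DihedralGroup 4) * r i = r 2 := by decide

theorem r_mul_self_cases : ∀ i : ZMod 4, (r i : DihedralGroup 4) * r i = 1 ∨ (r i : DihedralGroup 4) * r i = r 2 := by
  decide

theorem sr_inv_mul_r1 : ∀ i : ZMod 4, (sr i : DihedralGroup 4)⁻¹ * r 1 = sr (i + 1) := by decide

theorem sr_mul_sr_succ : ∀ i : ZMod 4, (sr i : DihedralGroup 4) * sr (i + 1) = r 1 := by decide

theorem beta0_sq : ∀ q : DihedralGroup 4, beta0 q ^ 2 = 1 := by decide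

theorem univ_d8 : (Finset.univ : Finset (DihedralGroup 4)) =
    {r 0, r 1, r 2, r 3, sr 0, sr 1, sr 2, sr 3} := by decide

section

variable {G : Type*} [Group G] (t : G)
  (e : Subgroup.centralizer ({t} : Set G) ≃* DihedralGroup 4)

/-- the embedding of `D₈` as the centralizer of `t` -/
noncomputable def phi : DihedralGroup 4 →* G :=
  (Subgroup.centralizer ({t} : Set G)).subtype.comp e.symm.toMonoidHom

theorem phi_injective : Function.Injective (phi t e) := by
  intro a b h
  have : (e.symm a : Subgroup.centralizer ({t} : Set G)) = e.symm b := Subtype.ext h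
  exact e.symm.injective this

theorem phi_mem (q : DihedralGroup 4) : phi t e q ∈ Subgroup.centralizer ({t} : Set G) :=
  (e.symm q).2

theorem exists_phi_eq {g : G} (hg : g ∈ Subgroup.centralizer ({t} : Set G)) :
    ∃ q : DihedralGroup 4, phi t e q = g :=
  ⟨e ⟨g, hg⟩, by simp [phi]⟩

theorem mem_centralizer_iff' (g : G) : g ∈ Subgroup.centralizer ({t} : Set G) ↔ g * t = t * g := by
  rw [Subgroup.mem_centralizer_singleton_iff]

theorem phi_commute_t (q : DihedralGroup 4) : phi t e q * t = t * phi t e q :=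
  (mem_centralizer_iff' t _).mp (phi_mem t e q)

theorem t_mem : t ∈ Subgroup.centralizer ({t} : Set G) := (mem_centralizer_iff' t t).mpr rfl

theorem phi_r2 (ht : t ≠ 1) : phi t e (r 2) = t := by
  obtain ⟨q, hq⟩ := exists_phi_eq t e (t_mem t)
  have hc : ∀ p : DihedralGroup 4, q * p = p * q := by
    intro p
    apply phi_injective t e
    rw [map_mul, map_mul, hq]
    exact (phi_commute_t t e p).symm
  rcases center_d8 q hc with rfl | rfl
  · exfalso; apply ht; rw [← hq, map_one]
  · exact hq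

/-- the element of order four -/
noncomputable def cc : G := phi t e (r 1)

/-- a noncentral involution -/
noncomputable def bb : G := phi t e (sr 0)

theorem cc_sq (ht : t ≠ 1) : cc t e * cc t e = t := by
  unfold cc
  rw [← map_mul]
  have h : (r 1 * r 1 : DihedralGroup 4) = r 2 := by decide
  rw [h]
  exact phi_r2 t e ht

theorem mem_zpowers_cc_iff (x : G) :
    x ∈ Subgroup.zpowers (cc t e) ↔ ∃ i : ZMod 4, phi t e (r i) = x := by
  constructor
  · intro hx
    obtain ⟨k, rfl⟩ := Subgroup.mem_zpowers_iff.mp hx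
    refine ⟨(k : ZMod 4), ?_⟩
    unfold cc
    rw [← map_zpow]
    congr 1
    rw [DihedralGroup.r_one_zpow]
  · rintro ⟨i, rfl⟩
    rw [r_eq_pow i, map_pow]
    exact Subgroup.pow_mem _ (Subgroup.mem_zpowers _) _

theorem zpowers_cc_le : Subgroup.zpowers (cc t e) ≤ Subgroup.centralizer ({t} : Set G) := by
  intro x hx
  obtain ⟨i, rfl⟩ := (mem_zpowers_cc_iff t e x).mp hx
  exact phi_mem t e _

theorem orderOf_cc : orderOf (cc t e) = 4 := by
  unfold cc
  rw [orderOf_injective (phi t e) (phi_injective t e), DihedralGroup.orderOf_r_one]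

theorem centralizer_cc (ht : t ≠ 1) :
    Subgroup.centralizer ({cc t e} : Set G) = Subgroup.zpowers (cc t e) := by
  apply le_antisymm
  · intro g hg
    rw [Subgroup.mem_centralizer_singleton_iff] at hg
    have hgt : g ∈ Subgroup.centralizer ({t} : Set G) := by
      rw [mem_centralizer_iff', ← cc_sq t e ht]
      calc g * (cc t e * cc t e) = (cc t e * g) * cc t e := by rw [← mul_assoc, hg]
        _ = cc t e * (cc t e * g) := by rw [mul_assoc, hg]
        _ = cc t e * cc t e * g := by rw [mul_assoc]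
    obtain ⟨q, rfl⟩ := exists_phi_eq t e hgt
    have hq : q * r 1 = r 1 * q := by
      apply phi_injective t e
      rw [map_mul, map_mul]
      exact hg
    obtain ⟨i, rfl⟩ := centralizer_r1 q hq
    exact (mem_zpowers_cc_iff t e _).mpr ⟨i, rfl⟩
  · intro g hg
    rw [Subgroup.mem_centralizer_singleton_iff]
    obtain ⟨k, rfl⟩ := Subgroup.mem_zpowers_iff.mp hg
    exact ((Commute.refl (cc t e)).zpow_right k).eq.symm

theorem bb_not_mem : bb t e ∉ Subgroup.zpowers (cc t e) := by
  intro h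
  obtain ⟨i, hi⟩ := (mem_zpowers_cc_iff t e _).mp h
  have := phi_injective t e hi
  exact absurd this (by simp)

theorem bb_conj (x : G) (hx : x ∈ Subgroup.zpowers (cc t e)) : bb t e * x * (bb t e)⁻¹ = x⁻¹ := by
  obtain ⟨i, rfl⟩ := (mem_zpowers_cc_iff t e x).mp hx
  unfold bb
  rw [← map_inv, ← map_mul, ← map_mul, ← map_inv, sr0_conj_r]

theorem bb_conj_mem (x : G) (hx : x ∈ Subgroup.zpowers (cc t e)) :
    bb t e * x * (bb t e)⁻¹ ∈ Subgroup.zpowers (cc t e) := by
  rw [bb_conj t e x hx]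
  exact Subgroup.inv_mem _ hx

/-- the linear character on the centralizer -/
noncomputable def psiD : Subgroup.centralizer ({t} : Set G) →* ℂˣ :=
  ((Units.map (Int.castRingHom ℂ).toMonoidHom).comp beta0).comp e.toMonoidHom

/-- its restriction to the cyclic subgroup of order four -/
noncomputable def lam : Subgroup.zpowers (cc t e) →* ℂˣ :=
  (psiD t e).comp (Subgroup.inclusion (zpowers_cc_le t e))

theorem psiD_phi (q : DihedralGroup 4) :
    psiD t e ⟨phi t e q, phi_mem t e q⟩ = Units.map (Int.castRingHom ℂ).toMonoidHom (beta0 q) := by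
  unfold psiD
  simp only [MonoidHom.comp_apply, MulEquiv.coe_toMonoidHom]
  congr 2
  have : (⟨phi t e q, phi_mem t e q⟩ : Subgroup.centralizer ({t} : Set G)) = e.symm q :=
    Subtype.ext rfl
  rw [this, MulEquiv.apply_symm_apply]

theorem lam_phi (i : ZMod 4) (h : phi t e (r i) ∈ Subgroup.zpowers (cc t e)) :
    lam t e ⟨phi t e (r i), h⟩ = Units.map (Int.castRingHom ℂ).toMonoidHom (beta0 (r i)) := by
  unfold lam
  rw [MonoidHom.comp_apply]
  exact psiD_phi t e (r i)

theorem unitsMap_eq_one_iff (u : ℤˣ) : Units.map (Int.castRingHom ℂ).toMonoidHom u = 1 ↔ u = 1 := by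
  constructor
  · intro h
    have h1 := congrArg (fun v : ℂˣ => (v : ℂ)) h
    simp only [Units.coe_map, RingHom.toMonoidHom_eq_coe, MonoidHom.coe_coe, eq_intCast,
      Units.val_one] at h1
    apply Units.ext
    have h2 : ((u : ℤ) : ℂ) = ((1 : ℤ) : ℂ) := by simpa using h1
    have h3 : (u : ℤ) = 1 := Int.cast_injective h2
    simpa using h3
  · rintro rfl; simp

theorem lam_sq (x : Subgroup.zpowers (cc t e)) : lam t e x ^ 2 = 1 := by
  obtain ⟨x, hx⟩ := x
  obtain ⟨i, rfl⟩ := (mem_zpowers_cc_iff t e x).mp hx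
  rw [lam_phi, ← map_pow, beta0_sq, map_one]

theorem lam_cc : ((lam t e ⟨cc t e, Subgroup.mem_zpowers _⟩ : ℂˣ) : ℂ) = -1 := by
  have h : lam t e ⟨cc t e, Subgroup.mem_zpowers _⟩ =
      Units.map (Int.castRingHom ℂ).toMonoidHom (beta0 (r 1)) :=
    lam_phi t e 1 (Subgroup.mem_zpowers _)
  rw [h]
  have : beta0 (r 1) = -1 := by decide
  rw [this]
  simp

theorem lam_ne_one' : lam t e ≠ 1 := by
  intro h
  have h1 := lam_cc t e
  rw [h] at h1
  simp at h1
  norm_num at h1

theorem lam_inv (x : G) (hx : x ∈ Subgroup.zpowers (cc t e)) :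
    lam t e ⟨bb t e * x * (bb t e)⁻¹, bb_conj_mem t e x hx⟩ = (lam t e ⟨x, hx⟩)⁻¹ := by
  rw [← map_inv]
  congr 1
  apply Subtype.ext
  simp only [Subgroup.coe_inv]
  exact bb_conj t e x hx

/-- the TI property of `{c, c⁻¹}` -/
theorem ti (ht : t ≠ 1) (x : G) (hx : x ∈ Subgroup.zpowers (cc t e)) (hl : lam t e ⟨x, hx⟩ ≠ 1)
    (g : G) (hg : g * x * g⁻¹ ∈ Subgroup.zpowers (cc t e)) :
    g ∈ Subgroup.zpowers (cc t e) ∨ (bb t e)⁻¹ * g ∈ Subgroup.zpowers (cc t e) := by
  obtain ⟨i, rfl⟩ := (mem_zpowers_cc_iff t e x).mp hx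
  rw [lam_phi] at hl
  have hb : beta0 (r i) ≠ 1 := fun h => hl ((unitsMap_eq_one_iff _).mpr h)
  have hxx : phi t e (r i) * phi t e (r i) = t := by
    rw [← map_mul, r_sq i hb, phi_r2 t e ht]
  obtain ⟨j, hj⟩ := (mem_zpowers_cc_iff t e _).mp hg
  have hyy : (g * phi t e (r i) * g⁻¹) * (g * phi t e (r i) * g⁻¹) = g * t * g⁻¹ := by
    have : (g * phi t e (r i) * g⁻¹) * (g * phi t e (r i) * g⁻¹) =
        g * (phi t e (r i) * phi t e (r i)) * g⁻¹ := by group
    rw [this, hxx]
  have hyy' : phi t e (r j * r j) = g * t * g⁻¹ := by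
    rw [map_mul, hj]; exact hyy
  have hgt : g * t * g⁻¹ = t := by
    rcases r_mul_self_cases j with h | h
    · exfalso
      rw [h, map_one] at hyy'
      apply ht
      have : t = g⁻¹ * (g * t * g⁻¹) * g := by group
      rw [this, ← hyy']; group
    · rw [h, phi_r2 t e ht] at hyy'
      exact hyy'.symm
  have hgD : g ∈ Subgroup.centralizer ({t} : Set G) := by
    rw [mem_centralizer_iff']
    calc g * t = (g * t * g⁻¹) * g := by group
      _ = t * g := by rw [hgt]
  obtain ⟨q, rfl⟩ := exists_phi_eq t e hgD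
  rcases cases_d8 q with ⟨k, rfl⟩ | ⟨k, rfl⟩
  · left; exact (mem_zpowers_cc_iff t e _).mpr ⟨k, rfl⟩
  · right
    unfold bb
    rw [← map_inv, ← map_mul, sr0_inv_mul_sr]
    exact (mem_zpowers_cc_iff t e _).mpr ⟨k, rfl⟩

end

end Cfsg.Agent.Helper4.D8
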