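import Mathlib
import Cfsg.Agent.Lib.Helper4.D8.Local

/-!
# Groups with an involution whose centralizer is dihedral of order 8: Sylow, fusion, counting
-/

set_option autoImplicit false
set_option linter.unusedSectionVars false
set_option linter.style.haveILetI false

namespace Cfsg.Agent.Helper4.D8

open DihedralGroup

variable {G : Type*} [Group G] [Finite G] (t : G)
  (e : Subgroup.centralizer ({t} : Set G) ≃* DihedralGroup 4)

include e in
theorem card_centralizer : Nat.card (Subgroup.centralizer ({t} : Set G)) = 8 := by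
  rw [Nat.card_congr e.toEquiv, DihedralGroup.nat_card]

include e in
theorem exists_sylow (ht : t ≠ 1) :
    ∃ S : Sylow 2 G, (S : Subgroup G) = Subgroup.centralizer ({t} : Set G) := by
  haveI : Fact (Nat.Prime 2) := ⟨Nat.prime_two⟩
  have hp : IsPGroup 2 (Subgroup.centralizer ({t} : Set G)) :=
    IsPGroup.of_card (n := 3) (by rw [card_centralizer t e]; norm_num)
  obtain ⟨S, hS⟩ := hp.exists_le_sylow
  refine ⟨S, le_antisymm ?_ hS⟩
  haveI : Nontrivial (S : Subgroup G) :=
    ⟨⟨⟨t, hS (t_mem t)⟩, 1, fun h => ht (by simpa using congrArg Subtype.val h)⟩⟩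
  haveI : Nontrivial (Subgroup.center (S : Subgroup G)) := IsPGroup.center_nontrivial S.isPGroup'
  obtain ⟨z, hz⟩ := exists_ne (1 : Subgroup.center (S : Subgroup G))
  have hzc : ∀ s : G, s ∈ (S : Subgroup G) → s * (z.1.1 : G) = (z.1.1 : G) * s := by
    intro s hs
    have := Subgroup.mem_center_iff.mp z.2 ⟨s, hs⟩
    exact congrArg Subtype.val this
  have hzD : (z.1.1 : G) ∈ Subgroup.centralizer ({t} : Set G) := by
    rw [mem_centralizer_iff']
    exact (hzc t (hS (t_mem t))).symm
  obtain ⟨q, hq⟩ := exists_phi_eq t e hzD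
  have hc : ∀ p : DihedralGroup 4, q * p = p * q := by
    intro p
    apply phi_injective t e
    rw [map_mul, map_mul, hq]
    exact (hzc _ (hS (phi_mem t e p))).symm
  have hzt : (z.1.1 : G) = t := by
    rcases center_d8 q hc with rfl | rfl
    · exfalso
      apply hz
      apply Subtype.ext
      apply Subtype.ext
      rw [← hq, map_one]; rfl
    · rw [← hq]; exact phi_r2 t e ht
  intro s hs
  rw [mem_centralizer_iff', ← hzt]
  exact hzc s hs

theorem no_index_two (hperf : commutator G = ⊤) (H : Subgroup G) : H.index ≠ 2 := by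
  intro h
  haveI : H.Normal := Subgroup.normal_of_index_eq_two h
  have hcard : Nat.card (G ⧸ H) = 2 := h
  haveI : Fact (Nat.Prime 2) := ⟨Nat.prime_two⟩
  have hcyc : IsCyclic (G ⧸ H) := isCyclic_of_prime_card hcard
  have hcomm : ∀ a b : G ⧸ H, a * b = b * a := fun a b => hcyc.isMulCommutative.is_comm.comm a b
  have hle : commutator G ≤ H := by
    rw [commutator_def, Subgroup.commutator_le]
    intro a _ b _
    rw [← QuotientGroup.eq_one_iff]
    simp only [commutatorElement_def, QuotientGroup.mk_mul, QuotientGroup.mk_inv]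
    rw [hcomm (a : G ⧸ H) b]
    group
  rw [hperf] at hle
  have : H = ⊤ := top_le_iff.mp hle
  rw [this, Subgroup.index_top] at h
  omega

include e in
theorem invol_conj (hperf : commutator G = ⊤) (ht2 : orderOf t = 2) (y : G)
    (hy : y ∈ Subgroup.centralizer ({t} : Set G)) (hy2 : orderOf y = 2) :
    ∃ g : G, g * y * g⁻¹ = t := by
  have ht : t ≠ 1 := by
    intro h; rw [h, orderOf_one] at ht2; omega
  obtain ⟨S, hS⟩ := exists_sylow t e ht
  have hO := Cfsg.Agent.S0221.pResidual_eq_top_of_no_index_two (no_index_two hperf)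
  have hle : Subgroup.zpowers (cc t e) ≤ (S : Subgroup G) := by
    rw [hS]; exact zpowers_cc_le t e
  set M : Subgroup (S : Subgroup G) := (Subgroup.zpowers (cc t e)).subgroupOf (S : Subgroup G) with hM
  have hMcard : Nat.card M = 4 := by
    rw [hM, Nat.card_congr (Subgroup.subgroupOfEquivOfLe hle).toEquiv, Nat.card_zpowers, orderOf_cc]
  have hScard : Nat.card (S : Subgroup G) = 8 := by
    rw [hS]; exact card_centralizer t e
  have hidx : M.index = 2 := by
    have := M.card_mul_index
    rw [hMcard, hScard] at this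
    omega
  obtain ⟨g, h, hmem⟩ := Cfsg.Agent.Helper31.exists_conj_mem_of_index_two hO S M hidx y hy2
    (by show y ∈ (S : Subgroup G); rw [hS]; exact hy)
  refine ⟨g, ?_⟩
  have hz : g * y * g⁻¹ ∈ Subgroup.zpowers (cc t e) := by
    rw [hM, Subgroup.mem_subgroupOf] at hmem
    exact hmem
  obtain ⟨i, hi⟩ := (mem_zpowers_cc_iff t e _).mp hz
  have hyy : y * y = 1 := by
    rw [← pow_two, ← hy2]; exact pow_orderOf_eq_one y
  have hy1 : y ≠ 1 := by
    intro h1; rw [h1, orderOf_one] at hy2; omega
  have h1 : (r i : DihedralGroup 4) * r i = 1 := by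
    apply phi_injective t e
    rw [map_mul, hi, map_one]
    calc g * y * g⁻¹ * (g * y * g⁻¹) = g * (y * y) * g⁻¹ := by group
      _ = 1 := by rw [hyy]; group
  have h2 : (r i : DihedralGroup 4) ≠ 1 := by
    intro h3
    rw [h3, map_one] at hi
    apply hy1
    have : y = g⁻¹ * (g * y * g⁻¹) * g := by group
    rw [this, ← hi]; group
  have := invol_r i h1 h2
  rw [← hi, this]
  exact phi_r2 t e ht

theorem orderOf_phi_sr (i : ZMod 4) : orderOf (phi t e (sr i)) = 2 := by
  rw [orderOf_injective (phi t e) (phi_injective t e), DihedralGroup.orderOf_sr]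

theorem isConj_phi_sr (hperf : commutator G = ⊤) (ht2 : orderOf t = 2) (i : ZMod 4) :
    IsConj t (phi t e (sr i)) := by
  obtain ⟨g, hg⟩ := invol_conj t e hperf ht2 (phi t e (sr i)) (phi_mem t e _) (orderOf_phi_sr t e i)
  exact (isConj_iff.mpr ⟨g, hg⟩).symm

/-- the number of ways of writing `c` as a product of two conjugates of `t` -/
theorem card_pairs (hperf : commutator G = ⊤) (ht2 : orderOf t = 2) :
    Nat.card {p : G × G // IsConj t p.1 ∧ IsConj t p.2 ∧ p.1 * p.2 = cc t e} = 4 := by
  have ht : t ≠ 1 := by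
    intro h; rw [h, orderOf_one] at ht2; omega
  have htt : t * t = 1 := by
    rw [← pow_two, ← ht2]; exact pow_orderOf_eq_one t
  let f : ZMod 4 → {p : G × G // IsConj t p.1 ∧ IsConj t p.2 ∧ p.1 * p.2 = cc t e} := fun i =>
    ⟨(phi t e (sr i), phi t e (sr (i + 1))), isConj_phi_sr t e hperf ht2 i,
      isConj_phi_sr t e hperf ht2 (i + 1), by
        show phi t e (sr i) * phi t e (sr (i + 1)) = cc t e
        rw [← map_mul, sr_mul_sr_succ]; rfl⟩
  have hf : Function.Bijective f := by
    constructor
    · intro i j hij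
      have h1 : phi t e (sr i) = phi t e (sr j) := congrArg (fun p => p.1.1) hij
      have := phi_injective t e h1
      simpa using this
    · rintro ⟨⟨p₁, p₂⟩, h1, h2, h3⟩
      simp only at h1 h2 h3
      have inv_of_conj : ∀ p : G, IsConj t p → p * p = 1 := by
        intro p hp
        obtain ⟨g, hg⟩ := isConj_iff.mp hp
        rw [← hg]
        calc g * t * g⁻¹ * (g * t * g⁻¹) = g * (t * t) * g⁻¹ := by group
          _ = 1 := by rw [htt]; group
      have hp1 := inv_of_conj p₁ h1
      have hp2 := inv_of_conj p₂ h2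
      have hp1i : p₁⁻¹ = p₁ := inv_eq_of_mul_eq_one_left hp1
      have hp2i : p₂⁻¹ = p₂ := inv_eq_of_mul_eq_one_left hp2
      have hcinv : (cc t e)⁻¹ = p₂ * p₁ := by
        rw [← h3, mul_inv_rev, hp1i, hp2i]
      have hconj : p₁ * cc t e * p₁⁻¹ = (cc t e)⁻¹ := by
        rw [hcinv, ← h3, hp1i]
        calc p₁ * (p₁ * p₂) * p₁ = (p₁ * p₁) * p₂ * p₁ := by group
          _ = p₂ * p₁ := by rw [hp1, one_mul]
      have hp1D : p₁ ∈ Subgroup.centralizer ({t} : Set G) := by
        rw [mem_centralizer_iff']
        have h4 : p₁ * t * p₁⁻¹ = t := by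
          rw [← cc_sq t e ht]
          calc p₁ * (cc t e * cc t e) * p₁⁻¹ = (p₁ * cc t e * p₁⁻¹) * (p₁ * cc t e * p₁⁻¹) := by
                group
            _ = (cc t e)⁻¹ * (cc t e)⁻¹ := by rw [hconj]
            _ = (cc t e * cc t e)⁻¹ := by group
            _ = cc t e * cc t e := by
                rw [cc_sq t e ht]; exact inv_eq_of_mul_eq_one_left htt
        calc p₁ * t = (p₁ * t * p₁⁻¹) * p₁ := by group
          _ = t * p₁ := by rw [h4]
      obtain ⟨q, rfl⟩ := exists_phi_eq t e hp1D
      have hq : q * r 1 * q⁻¹ = (r 1)⁻¹ := by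
        apply phi_injective t e
        rw [map_mul, map_mul, map_inv, map_inv]
        exact hconj
      obtain ⟨i, rfl⟩ := inverts_r1 q hq
      refine ⟨i, ?_⟩
      apply Subtype.ext
      show (phi t e (sr i), phi t e (sr (i + 1))) = (phi t e (sr i), p₂)
      congr 1
      have : p₂ = (phi t e (sr i))⁻¹ * cc t e := by
        rw [← h3]; group
      rw [this, ← map_inv]
      unfold cc
      rw [← map_mul, sr_inv_mul_r1]
  have := Nat.card_eq_of_bijective f hf
  rw [← this, Nat.card_zmod]

end Cfsg.Agent.Helper4.D8
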