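import Mathlib
import Cfsg.Agent.Lib.Helper4.D8.Local2
import Cfsg.Agent.S0840

/-!
# Groups with an involution whose centralizer is dihedral of order 8 and without subgroups of
index two are simple
-/

set_option autoImplicit false
set_option linter.unusedSectionVars false
set_option linter.style.haveILetI false

namespace Cfsg.Agent.Helper4.D8

open DihedralGroup
open scoped commutatorElement

theorem r_eq_sr_mul_sr : ∀ i : ZMod 4, (r i : DihedralGroup 4) = sr 0 * sr i := by decide

theorem r1_sr0_ne : (r 1 : DihedralGroup 4) * sr 0 ≠ sr 0 * r 1 := by decide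

variable {G : Type*} [Group G] [Finite G] (t : G)
  (e : Subgroup.centralizer ({t} : Set G) ≃* DihedralGroup 4)

include e in
theorem invol_conj' (hno : ∀ H : Subgroup G, H.index ≠ 2) (ht2 : orderOf t = 2) (y : G)
    (hy : y ∈ Subgroup.centralizer ({t} : Set G)) (hy2 : orderOf y = 2) :
    ∃ g : G, g * y * g⁻¹ = t := by
  have ht : t ≠ 1 := by
    intro h; rw [h, orderOf_one] at ht2; omega
  obtain ⟨S, hS⟩ := exists_sylow t e ht
  have hO := Cfsg.Agent.S0221.pResidual_eq_top_of_no_index_two hno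
  have hle : Subgroup.zpowers (cc t e) ≤ (S : Subgroup G) := by
    rw [hS]; exact zpowers_cc_le t e
  set M : Subgroup (S : Subgroup G) := (Subgroup.zpowers (cc t e)).subgroupOf (S : Subgroup G) with hM
  have hMcard : Nat.card M = 4 := by
    rw [hM, Nat.card_congr (Subgroup.subgroupOfEquivOfLe hle).toEquiv, Nat.card_zpowers, orderOf_cc]
  have hScard : Nat.card (S : Subgroup G) = 8 := by
    rw [hS]; exact card_centralizer t e
  have hidx : M.index = 2 := by
    have := M.card_mul_index
    rw [hMcard, hScard] at this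
    omega
  obtain ⟨g, h, hmem⟩ := Cfsg.Agent.Helper31.exists_conj_mem_of_index_two hO S M hidx y hy2
    (by show y ∈ (S : Subgroup G); rw [hS]; exact hy)
  refine ⟨g, ?_⟩
  have hz : g * y * g⁻¹ ∈ Subgroup.zpowers (cc t e) := by
    rw [hM, Subgroup.mem_subgroupOf] at hmem
    exact hmem
  obtain ⟨i, hi⟩ := (mem_zpowers_cc_iff t e _).mp hz
  have hyy : y * y = 1 := by
    rw [← pow_two, ← hy2]; exact pow_orderOf_eq_one y
  have hy1 : y ≠ 1 := by
    intro h1; rw [h1, orderOf_one] at hy2; omega
  have h1 : (r i : DihedralGroup 4) * r i = 1 := by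
    apply phi_injective t e
    rw [map_mul, hi, map_one]
    calc g * y * g⁻¹ * (g * y * g⁻¹) = g * (y * y) * g⁻¹ := by group
      _ = 1 := by rw [hyy]; group
  have h2 : (r i : DihedralGroup 4) ≠ 1 := by
    intro h3
    rw [h3, map_one] at hi
    apply hy1
    have : y = g⁻¹ * (g * y * g⁻¹) * g := by group
    rw [this, ← hi]; group
  have := invol_r i h1 h2
  rw [← hi, this]
  exact phi_r2 t e ht

include e in
/-- all involutions are conjugate -/
theorem all_invol_conj (hno : ∀ H : Subgroup G, H.index ≠ 2) (ht2 : orderOf t = 2) (y : G)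
    (hy2 : orderOf y = 2) : ∃ g : G, g * y * g⁻¹ = t := by
  have ht : t ≠ 1 := by
    intro h; rw [h, orderOf_one] at ht2; omega
  haveI : Fact (Nat.Prime 2) := ⟨Nat.prime_two⟩
  obtain ⟨S, hS⟩ := exists_sylow t e ht
  have hp : IsPGroup 2 (Subgroup.zpowers y) :=
    IsPGroup.of_card (n := 1) (by rw [Nat.card_zpowers, hy2]; norm_num)
  obtain ⟨Q, hQ⟩ := hp.exists_le_sylow
  obtain ⟨g, hg⟩ := MulAction.exists_smul_eq G Q S
  have hyQ : y ∈ (Q : Subgroup G) := hQ (Subgroup.mem_zpowers y)
  have hgy : g * y * g⁻¹ ∈ (S : Subgroup G) := by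
    rw [← hg, Sylow.coe_subgroup_smul]
    have : g * y * g⁻¹ = MulAut.conj g • y := by simp [MulAut.smul_def]
    rw [this, Subgroup.smul_mem_pointwise_smul_iff]
    exact hyQ
  rw [hS] at hgy
  have ho : orderOf (g * y * g⁻¹) = 2 := by
    rw [← MulAut.conj_apply, MulEquiv.orderOf_eq, hy2]
  obtain ⟨g', hg'⟩ := invol_conj' t e hno ht2 (g * y * g⁻¹) hgy ho
  refine ⟨g' * g, ?_⟩
  rw [← hg']; group

include e in
theorem t_mem_of_even (hno : ∀ H : Subgroup G, H.index ≠ 2) (ht2 : orderOf t = 2)
    (N : Subgroup G) [N.Normal] (h2 : 2 ∣ Nat.card N) : t ∈ N := by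
  haveI : Fact (Nat.Prime 2) := ⟨Nat.prime_two⟩
  obtain ⟨y, hy⟩ := exists_prime_orderOf_dvd_card' 2 h2
  have hy2 : orderOf (y : G) = 2 := by rw [Subgroup.orderOf_coe, hy]
  obtain ⟨g, hg⟩ := all_invol_conj t e hno ht2 (y : G) hy2
  rw [← hg]
  exact (inferInstance : N.Normal).conj_mem _ y.2 g

include e in
theorem centralizer_le_of_mem (hno : ∀ H : Subgroup G, H.index ≠ 2) (ht2 : orderOf t = 2)
    (N : Subgroup G) [N.Normal] (htN : t ∈ N) : Subgroup.centralizer ({t} : Set G) ≤ N := by
  have hsr : ∀ i : ZMod 4, phi t e (sr i) ∈ N := by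
    intro i
    obtain ⟨g, hg⟩ := all_invol_conj t e hno ht2 (phi t e (sr i)) (orderOf_phi_sr t e i)
    have h1 : phi t e (sr i) = g⁻¹ * (g * phi t e (sr i) * g⁻¹) * g⁻¹⁻¹ := by group
    rw [h1, hg]
    exact (inferInstance : N.Normal).conj_mem _ htN g⁻¹
  intro x hx
  obtain ⟨q, rfl⟩ := exists_phi_eq t e hx
  rcases cases_d8 q with ⟨i, rfl⟩ | ⟨i, rfl⟩
  · rw [r_eq_sr_mul_sr i, map_mul]
    exact N.mul_mem (hsr 0) (hsr i)
  · exact hsr i

include e in
theorem normalizer_le (ht : t ≠ 1) :
    Subgroup.normalizer ((Subgroup.centralizer ({t} : Set G) : Subgroup G) : Set G) ≤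
      Subgroup.centralizer ({t} : Set G) := by
  intro g hg
  rw [Subgroup.mem_normalizer_iff] at hg
  have h1 : g * t * g⁻¹ ∈ Subgroup.centralizer ({t} : Set G) := (hg t).mp (t_mem t)
  obtain ⟨q, hq⟩ := exists_phi_eq t e h1
  have hc : ∀ p : DihedralGroup 4, q * p = p * q := by
    intro p
    apply phi_injective t e
    rw [map_mul, map_mul, hq]
    have h2 : g⁻¹ * phi t e p * g ∈ Subgroup.centralizer ({t} : Set G) := by
      have := (hg (g⁻¹ * phi t e p * g)).mpr (by
        have : g * (g⁻¹ * phi t e p * g) * g⁻¹ = phi t e p := by group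
        rw [this]; exact phi_mem t e p)
      exact this
    have h3 := (mem_centralizer_iff' t _).mp h2
    calc g * t * g⁻¹ * phi t e p = g * (t * (g⁻¹ * phi t e p * g)) * g⁻¹ := by group
      _ = g * ((g⁻¹ * phi t e p * g) * t) * g⁻¹ := by rw [h3]
      _ = phi t e p * (g * t * g⁻¹) := by group
  rw [mem_centralizer_iff']
  rcases center_d8 q hc with rfl | rfl
  · exfalso
    rw [map_one] at hq
    apply ht
    have : t = g⁻¹ * (g * t * g⁻¹) * g := by group
    rw [this, ← hq]; group
  · rw [phi_r2 t e ht] at hq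
    calc g * t = (g * t * g⁻¹) * g := by group
      _ = t * g := by rw [← hq]

include e in
theorem eq_top_of_even (hno : ∀ H : Subgroup G, H.index ≠ 2) (ht2 : orderOf t = 2)
    (N : Subgroup G) [N.Normal] (h2 : 2 ∣ Nat.card N) : N = ⊤ := by
  have ht : t ≠ 1 := by
    intro h; rw [h, orderOf_one] at ht2; omega
  haveI : Fact (Nat.Prime 2) := ⟨Nat.prime_two⟩
  obtain ⟨S, hS⟩ := exists_sylow t e ht
  have hle : (S : Subgroup G) ≤ N := by
    rw [hS]
    exact centralizer_le_of_mem t e hno ht2 N (t_mem_of_even t e hno ht2 N h2)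
  have hF := Sylow.normalizer_sup_eq_top' S hle
  have hn : Subgroup.normalizer (S : Set G) ≤ N := by
    change Subgroup.normalizer ((S : Subgroup G) : Set G) ≤ N
    rw [hS]
    exact (normalizer_le t e ht).trans (hS ▸ hle)
  rw [sup_eq_right.mpr hn] at hF
  exact hF

omit e in
theorem card_centralizer_conj (a b : G) (h : IsConj a b) :
    Nat.card (Subgroup.centralizer ({a} : Set G)) = Nat.card (Subgroup.centralizer ({b} : Set G)) := by
  have ha := Cfsg.Agent.S0840.card_class_mul_card_centralizer a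
  have hb := Cfsg.Agent.S0840.card_class_mul_card_centralizer b
  have hcl : Nat.card {x : G // IsConj a x} = Nat.card {x : G // IsConj b x} :=
    Nat.card_congr (Equiv.subtypeEquivRight fun x =>
      ⟨fun hx => h.symm.trans hx, fun hx => h.trans hx⟩)
  haveI : Nonempty {x : G // IsConj b x} := ⟨⟨b, IsConj.refl b⟩⟩
  have hpos : 0 < Nat.card {x : G // IsConj b x} := Nat.card_pos
  rw [hcl, ← hb] at ha
  exact Nat.eq_of_mul_eq_mul_left hpos ha

omit e in
/-- an involution with centralizer of order eight inverts every normal subgroup of odd order -/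
theorem inverts_of_odd (N : Subgroup G) [N.Normal] (hodd : Odd (Nat.card N)) (a : G)
    (haa : a * a = 1) (hC : Nat.card (Subgroup.centralizer ({a} : Set G)) = 8) :
    ∀ n ∈ N, a * n * a⁻¹ = n⁻¹ := by
  let φ : N →* N := (MulAut.conjNormal a : MulAut N).toMonoidHom
  have hφ : ∀ n : N, ((φ n : N) : G) = a * (n : G) * a⁻¹ := fun n => MulAut.conjNormal_apply a n
  have hcop : Nat.Coprime 8 (Nat.card N) := by
    have : Nat.Coprime 2 (Nat.card N) := Nat.coprime_two_left.mpr hodd
    exact Nat.Coprime.pow_left 3 this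
  have hfpf : MonoidHom.FixedPointFree φ := by
    intro n hn
    have h1 : a * (n : G) * a⁻¹ = n := by rw [← hφ n, hn]
    have hmem : (n : G) ∈ Subgroup.centralizer ({a} : Set G) := by
      rw [Subgroup.mem_centralizer_singleton_iff]
      symm
      calc a * (n : G) = (a * (n : G) * a⁻¹) * a := by group
        _ = (n : G) * a := by rw [h1]
    have hd8 : orderOf (n : G) ∣ 8 := by
      rw [← hC]
      have := orderOf_dvd_natCard (⟨(n : G), hmem⟩ : Subgroup.centralizer ({a} : Set G))
      rwa [Subgroup.orderOf_mk] at this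
    have hdN : orderOf (n : G) ∣ Nat.card N := by
      rw [Subgroup.orderOf_coe]; exact orderOf_dvd_natCard n
    have h1' : orderOf (n : G) = 1 := Nat.eq_one_of_dvd_coprimes hcop hd8 hdN
    have : (n : G) = 1 := orderOf_eq_one_iff.mp h1'
    exact Subtype.ext this
  have hinv : Function.Involutive φ := by
    intro n
    apply Subtype.ext
    rw [hφ, hφ]
    have hai : a⁻¹ = a := inv_eq_of_mul_eq_one_left haa
    rw [hai]
    calc a * (a * (n : G) * a) * a = (a * a) * (n : G) * (a * a) := by group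
      _ = (n : G) := by rw [haa, one_mul, mul_one]
  have hcoe := hfpf.coe_eq_inv_of_involutive hinv
  intro n hn
  have h := congrFun hcoe ⟨n, hn⟩
  have h2 := congrArg Subtype.val h
  rw [hφ] at h2
  simpa using h2

include e in
theorem eq_bot_of_odd (hno : ∀ H : Subgroup G, H.index ≠ 2) (ht2 : orderOf t = 2)
    (N : Subgroup G) [N.Normal] (hodd : Odd (Nat.card N)) : N = ⊥ := by
  have ht : t ≠ 1 := by
    intro h; rw [h, orderOf_one] at ht2; omega
  have htt : t * t = 1 := by
    rw [← pow_two, ← ht2]; exact pow_orderOf_eq_one t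
  have hC : ∀ y : G, orderOf y = 2 → Nat.card (Subgroup.centralizer ({y} : Set G)) = 8 := by
    intro y hy
    obtain ⟨g, hg⟩ := all_invol_conj t e hno ht2 y hy
    rw [card_centralizer_conj y t (isConj_iff.mpr ⟨g, hg⟩)]
    exact card_centralizer t e
  have hbb : bb t e * bb t e = 1 := by
    unfold bb
    rw [← map_mul, sr_mul_self, map_one]
  have htb : t * bb t e = phi t e (sr 2) := by
    have h1 : (sr 2 : DihedralGroup 4) = r 2 * sr 0 := by decide
    rw [h1, map_mul, phi_r2 t e ht]
    rfl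
  have htbtb : (t * bb t e) * (t * bb t e) = 1 := by
    rw [htb, ← map_mul, sr_mul_self, map_one]
  have i1 := inverts_of_odd N hodd t htt (card_centralizer t e)
  have i2 := inverts_of_odd N hodd (bb t e) hbb (hC _ (orderOf_phi_sr t e 0))
  have i3 := inverts_of_odd N hodd (t * bb t e) htbtb (hC _ (by rw [htb]; exact orderOf_phi_sr t e 2))
  rw [Subgroup.eq_bot_iff_forall]
  intro n hn
  have h1 : (t * bb t e) * n * (t * bb t e)⁻¹ = n := by
    calc (t * bb t e) * n * (t * bb t e)⁻¹ = t * (bb t e * n * (bb t e)⁻¹) * t⁻¹ := by group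
      _ = t * n⁻¹ * t⁻¹ := by rw [i2 n hn]
      _ = n⁻¹⁻¹ := i1 n⁻¹ (N.inv_mem hn)
      _ = n := inv_inv n
  have h2 : n⁻¹ = n := by rw [← i3 n hn, h1]
  have hnn : n ^ 2 = 1 := by
    rw [pow_two]
    calc n * n = n⁻¹ * n := by rw [h2]
      _ = 1 := inv_mul_cancel n
  have hd2 : orderOf n ∣ 2 := orderOf_dvd_of_pow_eq_one hnn
  have hdN : orderOf n ∣ Nat.card N := by
    have := orderOf_dvd_natCard (⟨n, hn⟩ : N)
    rwa [Subgroup.orderOf_mk] at this
  have hcop : Nat.Coprime 2 (Nat.card N) := Nat.coprime_two_left.mpr hodd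
  exact orderOf_eq_one_iff.mp (Nat.eq_one_of_dvd_coprimes hcop hd2 hdN)

include e in
theorem isSimpleGroup_of_no_index_two (hno : ∀ H : Subgroup G, H.index ≠ 2) (ht2 : orderOf t = 2) :
    IsSimpleGroup G := by
  have ht : t ≠ 1 := by
    intro h; rw [h, orderOf_one] at ht2; omega
  refine { exists_pair_ne := ⟨t, 1, ht⟩, eq_bot_or_eq_top_of_normal := ?_ }
  intro N hN
  haveI := hN
  rcases Nat.even_or_odd (Nat.card N) with h | h
  · right
    exact eq_top_of_even t e hno ht2 N (even_iff_two_dvd.mp h)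
  · left
    exact eq_bot_of_odd t e hno ht2 N h

include e in
theorem perfect_of_no_index_two (hno : ∀ H : Subgroup G, H.index ≠ 2) (ht2 : orderOf t = 2) :
    commutator G = ⊤ := by
  haveI := isSimpleGroup_of_no_index_two t e hno ht2
  have hn : (commutator G).Normal := inferInstance
  rcases hn.eq_bot_or_eq_top with h | h
  · exfalso
    have hmem : ⁅cc t e, bb t e⁆ ∈ commutator G := by
      rw [commutator_def]
      exact Subgroup.commutator_mem_commutator (Subgroup.mem_top _) (Subgroup.mem_top _)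
    rw [h, Subgroup.mem_bot, commutatorElement_eq_one_iff_mul_comm] at hmem
    apply r1_sr0_ne
    apply phi_injective t e
    rw [map_mul, map_mul]
    exact hmem
  · exact h

end Cfsg.Agent.Helper4.D8
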