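import Mathlib
import Cfsg.Agent.S5057
import Cfsg.Agent.Lib.Helper17.Order8Dihedral

/-!
# The centralizer of a double transposition in `A₆` is dihedral of order 8
-/

set_option autoImplicit false
set_option linter.unusedSectionVars false
set_option linter.style.haveILetI false

namespace Cfsg.Agent.Helper4.D8

open Equiv

/-- transport of centralizers along an automorphism -/
def centralizerCongr {H : Type*} [Group H] (f : H ≃* H) (x y : H) (hxy : f x = y) :
    Subgroup.centralizer ({x} : Set H) ≃* Subgroup.centralizer ({y} : Set H) where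
  toFun g := ⟨f g, by
    have := Subgroup.mem_centralizer_singleton_iff.mp g.2
    rw [Subgroup.mem_centralizer_singleton_iff, ← hxy, ← map_mul, ← map_mul, this]⟩
  invFun g := ⟨f.symm g, by
    have := Subgroup.mem_centralizer_singleton_iff.mp g.2
    have hx : x = f.symm y := by rw [← hxy, MulEquiv.symm_apply_apply]
    rw [Subgroup.mem_centralizer_singleton_iff, hx, ← map_mul, ← map_mul, this]⟩
  left_inv g := Subtype.ext (f.symm_apply_apply g.1)
  right_inv g := Subtype.ext (f.apply_symm_apply g.1)
  map_mul' g h := Subtype.ext (map_mul f g.1 h.1)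

/-- a fixed double transposition -/
def alpha0 : Perm (Fin 6) := swap 0 1 * swap 2 3

theorem alpha0_mem : alpha0 ∈ alternatingGroup (Fin 6) := by
  rw [Equiv.Perm.mem_alternatingGroup]; decide

theorem alpha0_cycleType : alpha0.cycleType = {2, 2} := by decide

/-- two further elements of its centralizer -/
def xx0 : Perm (Fin 6) := swap 0 2 * swap 1 3

def yy0 : Perm (Fin 6) := swap 0 1 * swap 4 5

theorem xx0_mem : xx0 ∈ alternatingGroup (Fin 6) := by
  rw [Equiv.Perm.mem_alternatingGroup]; decide

theorem yy0_mem : yy0 ∈ alternatingGroup (Fin 6) := by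
  rw [Equiv.Perm.mem_alternatingGroup]; decide

theorem xx0_comm : xx0 * alpha0 = alpha0 * xx0 := by decide

theorem yy0_comm : yy0 * alpha0 = alpha0 * yy0 := by decide

theorem xx0_yy0 : xx0 * yy0 ≠ yy0 * xx0 := by decide

theorem yy0_sq : yy0 * yy0 = 1 := by decide

theorem alpha0_sq : alpha0 * alpha0 = 1 := by decide

theorem yy0_ne : yy0 ≠ alpha0 := by decide

theorem yy0_ne_one : yy0 ≠ 1 := by decide

theorem alpha0_ne_one : alpha0 ≠ 1 := by decide

set_option maxRecDepth 100000 in
theorem card_filter_alpha0 : (Finset.univ.filter (fun g : alternatingGroup (Fin 6) =>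
    g * ⟨alpha0, alpha0_mem⟩ = ⟨alpha0, alpha0_mem⟩ * g)).card = 8 := by
  decide +kernel

theorem card_centralizer_alpha0 :
    Nat.card (Subgroup.centralizer
      ({(⟨alpha0, alpha0_mem⟩ : alternatingGroup (Fin 6))} : Set (alternatingGroup (Fin 6)))) = 8 := by
  rw [Nat.card_congr (Equiv.subtypeEquivRight
    (fun g => Subgroup.mem_centralizer_singleton_iff)), Nat.card_eq_fintype_card,
    Fintype.card_subtype]
  exact card_filter_alpha0

theorem centralizer_alpha0_iso :
    Nonempty (Subgroup.centralizer
      ({(⟨alpha0, alpha0_mem⟩ : alternatingGroup (Fin 6))} : Set (alternatingGroup (Fin 6)))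
        ≃* DihedralGroup 4) := by
  set a0 : alternatingGroup (Fin 6) := ⟨alpha0, alpha0_mem⟩ with ha0
  have hxm : (⟨xx0, xx0_mem⟩ : alternatingGroup (Fin 6)) ∈
      Subgroup.centralizer ({a0} : Set (alternatingGroup (Fin 6))) := by
    rw [Subgroup.mem_centralizer_singleton_iff]
    exact Subtype.ext xx0_comm
  have hym : (⟨yy0, yy0_mem⟩ : alternatingGroup (Fin 6)) ∈
      Subgroup.centralizer ({a0} : Set (alternatingGroup (Fin 6))) := by
    rw [Subgroup.mem_centralizer_singleton_iff]
    exact Subtype.ext yy0_comm
  have ham : a0 ∈ Subgroup.centralizer ({a0} : Set (alternatingGroup (Fin 6))) := by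
    rw [Subgroup.mem_centralizer_singleton_iff]
  have hna : ¬ ∀ x y : Subgroup.centralizer ({a0} : Set (alternatingGroup (Fin 6))),
      x * y = y * x := by
    intro h
    have := h ⟨_, hxm⟩ ⟨_, hym⟩
    have h2 := congrArg (fun z : Subgroup.centralizer ({a0} : Set (alternatingGroup (Fin 6))) =>
      ((z : alternatingGroup (Fin 6)) : Perm (Fin 6))) this
    exact xx0_yy0 h2
  rcases Cfsg.Agent.Helper17.order8_dihedral_or_unique_involution card_centralizer_alpha0 hna with
    h | ⟨z, hz, huniq⟩
  · exact h
  · exfalso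
    have o1 : orderOf (⟨a0, ham⟩ : Subgroup.centralizer ({a0} : Set (alternatingGroup (Fin 6)))) = 2 := by
      apply orderOf_eq_prime
      · apply Subtype.ext; apply Subtype.ext
        show alpha0 ^ 2 = 1
        rw [pow_two]; exact alpha0_sq
      · intro h
        have h2 := congrArg (fun z : Subgroup.centralizer ({a0} : Set (alternatingGroup (Fin 6))) =>
          ((z : alternatingGroup (Fin 6)) : Perm (Fin 6))) h
        exact alpha0_ne_one h2
    have o2 : orderOf (⟨⟨yy0, yy0_mem⟩, hym⟩ :
        Subgroup.centralizer ({a0} : Set (alternatingGroup (Fin 6)))) = 2 := by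
      apply orderOf_eq_prime
      · apply Subtype.ext; apply Subtype.ext
        show yy0 ^ 2 = 1
        rw [pow_two]; exact yy0_sq
      · intro h
        have h2 := congrArg (fun z : Subgroup.centralizer ({a0} : Set (alternatingGroup (Fin 6))) =>
          ((z : alternatingGroup (Fin 6)) : Perm (Fin 6))) h
        exact yy0_ne_one h2
    have e1 := huniq _ o1
    have e2 := huniq _ o2
    have h3 := e2.trans e1.symm
    have h4 := congrArg (fun z : Subgroup.centralizer ({a0} : Set (alternatingGroup (Fin 6))) =>
      ((z : alternatingGroup (Fin 6)) : Perm (Fin 6))) h3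
    exact yy0_ne h4

/-- the centralizer in `A₆` of an involution is dihedral of order eight -/
theorem centralizer_iso_d8 (a : alternatingGroup (Fin 6)) (h2 : orderOf a = 2) :
    Nonempty (Subgroup.centralizer ({a} : Set (alternatingGroup (Fin 6))) ≃* DihedralGroup 4) := by
  have hct := Cfsg.Agent.S5057.cycleType_of_involution a h2
  have hconj : IsConj (a : Perm (Fin 6)) alpha0 := by
    rw [Equiv.Perm.isConj_iff_cycleType_eq, hct, alpha0_cycleType]
  obtain ⟨σ, hσ⟩ := isConj_iff.mp hconj
  obtain ⟨e0⟩ := centralizer_alpha0_iso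
  let f : alternatingGroup (Fin 6) ≃* alternatingGroup (Fin 6) := MulAut.conjNormal σ
  have hf : f a = ⟨alpha0, alpha0_mem⟩ := by
    apply Subtype.ext
    exact (MulAut.conjNormal_apply σ a).trans hσ
  exact ⟨(centralizerCongr f a _ hf).trans e0⟩

end Cfsg.Agent.Helper4.D8
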