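import Mathlib

/-!
# Arithmetic for Isaacs CT 7.10 (perfect groups with a dihedral involution centralizer of order 8)
-/

set_option autoImplicit false

namespace Cfsg.Agent.Helper4.D8

/-- residues: `8 ∣ d + x - 2 z` with `x, z = ±1` and `d ≤ 20` -/
theorem d_cases (d x z : ℤ) (hz : z = 1 ∨ z = -1) (hx : x = 1 ∨ x = -1) (h8 : (8 : ℤ) ∣ d + x - 2 * z)
    (h2 : 2 ≤ d) (h20 : d ≤ 20) :
    (z = 1 ∧ x = 1 ∧ (d = 9 ∨ d = 17)) ∨ (z = 1 ∧ x = -1 ∧ (d = 3 ∨ d = 11 ∨ d = 19)) ∨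
    (z = -1 ∧ x = 1 ∧ (d = 5 ∨ d = 13)) ∨ (z = -1 ∧ x = -1 ∧ (d = 7 ∨ d = 15)) := by
  obtain ⟨k, hk⟩ := h8
  rcases hz with rfl | rfl <;> rcases hx with rfl | rfl <;> omega

theorem arith (N : ℤ) (d₁ d₂ d₃ z₁ z₂ z₃ x₁ x₂ x₃ : ℤ)
    (hz₁ : z₁ = 1 ∨ z₁ = -1) (hz₂ : z₂ = 1 ∨ z₂ = -1) (hz₃ : z₃ = 1 ∨ z₃ = -1)
    (hx₁ : x₁ = 1 ∨ x₁ = -1) (hx₂ : x₂ = 1 ∨ x₂ = -1) (hx₃ : x₃ = 1 ∨ x₃ = -1)
    (hdeg : 1 + z₁ * d₁ + z₂ * d₂ + z₃ * d₃ = 0) (hval : 1 + z₁ * x₁ + z₂ * x₂ + z₃ * x₃ = 0)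
    (h8₁ : (8 : ℤ) ∣ d₁ + x₁ - 2 * z₁) (h8₂ : (8 : ℤ) ∣ d₂ + x₂ - 2 * z₂)
    (h8₃ : (8 : ℤ) ∣ d₃ + x₃ - 2 * z₃)
    (hd₁ : 2 ≤ d₁) (hd₂ : 2 ≤ d₂) (hd₃ : 2 ≤ d₃)
    (hN : N * (d₁ * d₂ * d₃ + z₁ * (d₂ * d₃) + z₂ * (d₁ * d₃) + z₃ * (d₁ * d₂)) = 256 * (d₁ * d₂ * d₃))
    (hsum : 1 + d₁ ^ 2 + d₂ ^ 2 + d₃ ^ 2 ≤ N) : N = 168 ∨ N = 360 := by
  -- lower bounds `5 ≤ dᵢ` when `zᵢ = -1`
  have l₁ : z₁ = -1 → 5 ≤ d₁ := by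
    intro h; obtain ⟨k, hk⟩ := h8₁; rcases hx₁ with rfl | rfl <;> subst h <;> omega
  have l₂ : z₂ = -1 → 5 ≤ d₂ := by
    intro h; obtain ⟨k, hk⟩ := h8₂; rcases hx₂ with rfl | rfl <;> subst h <;> omega
  have l₃ : z₃ = -1 → 5 ≤ d₃ := by
    intro h; obtain ⟨k, hk⟩ := h8₃; rcases hx₃ with rfl | rfl <;> subst h <;> omega
  set P := d₁ * d₂ * d₃ with hP
  have hPpos : 0 < P := by positivity
  have hNpos : 0 < N := by nlinarith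
  have h23 : 0 ≤ d₂ * d₃ := by positivity
  have h13 : 0 ≤ d₁ * d₃ := by positivity
  have h12 : 0 ≤ d₁ * d₂ := by positivity
  have q₁ : z₁ = -1 → 5 * (d₂ * d₃) ≤ P := by
    intro h
    have := l₁ h
    rw [hP]
    nlinarith
  have q₂ : z₂ = -1 → 5 * (d₁ * d₃) ≤ P := by
    intro h
    have := l₂ h
    rw [hP]
    nlinarith
  have q₃ : z₃ = -1 → 5 * (d₁ * d₂) ≤ P := by
    intro h
    have := l₃ h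
    rw [hP]
    nlinarith
  -- the bracket is at least `3 P / 5`
  have hbr : 5 * (P + z₁ * (d₂ * d₃) + z₂ * (d₁ * d₃) + z₃ * (d₁ * d₂)) ≥ 3 * P := by
    rcases hz₁ with h1 | h1 <;> rcases hz₂ with h2 | h2 <;> rcases hz₃ with h3 | h3
    · exfalso; rw [h1, h2, h3] at hdeg; omega
    · have := q₃ h3; rw [h1, h2, h3]; nlinarith
    · have := q₂ h2; rw [h1, h2, h3]; nlinarith
    · have := q₂ h2; have := q₃ h3; rw [h1, h2, h3]; nlinarith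
    · have := q₁ h1; rw [h1, h2, h3]; nlinarith
    · have := q₁ h1; have := q₃ h3; rw [h1, h2, h3]; nlinarith
    · have := q₁ h1; have := q₂ h2; rw [h1, h2, h3]; nlinarith
    · exfalso; rw [h1, h2, h3] at hdeg; omega
  have hN426 : N ≤ 426 := by
    by_contra hcon
    replace hcon := not_le.mp hcon
    have h1 : N * (5 * (P + z₁ * (d₂ * d₃) + z₂ * (d₁ * d₃) + z₃ * (d₁ * d₂))) = 1280 * P := by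
      have := hN
      linear_combination 5 * this
    have h2 : N * (5 * (P + z₁ * (d₂ * d₃) + z₂ * (d₁ * d₃) + z₃ * (d₁ * d₂))) ≥ N * (3 * P) :=
      mul_le_mul_of_nonneg_left hbr hNpos.le
    nlinarith
  have b₁ : d₁ ≤ 20 := by nlinarith
  have b₂ : d₂ ≤ 20 := by nlinarith
  have b₃ : d₃ ≤ 20 := by nlinarith
  have c₁ := d_cases d₁ x₁ z₁ hz₁ hx₁ h8₁ hd₁ b₁
  have c₂ := d_cases d₂ x₂ z₂ hz₂ hx₂ h8₂ hd₂ b₂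
  have c₃ := d_cases d₃ x₃ z₃ hz₃ hx₃ h8₃ hd₃ b₃
  clear hbr l₁ l₂ l₃ q₁ q₂ q₃ h8₁ h8₂ h8₃ h23 h13 h12
  rcases c₁ with ⟨rfl, rfl, h | h⟩ | ⟨rfl, rfl, h | h | h⟩ | ⟨rfl, rfl, h | h⟩ | ⟨rfl, rfl, h | h⟩ <;>
  rcases c₂ with ⟨rfl, rfl, h' | h'⟩ | ⟨rfl, rfl, h' | h' | h'⟩ | ⟨rfl, rfl, h' | h'⟩ | ⟨rfl, rfl, h' | h'⟩ <;>
  rcases c₃ with ⟨rfl, rfl, h'' | h''⟩ | ⟨rfl, rfl, h'' | h'' | h''⟩ | ⟨rfl, rfl, h'' | h''⟩ | ⟨rfl, rfl, h'' | h''⟩ <;>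
  subst h h' h'' <;> simp only [hP] at * <;> omega

end Cfsg.Agent.Helper4.D8
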