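import Mathlib
import Cfsg.Agent.Lib.Helper4.BS.Theta

/-!
# The exceptional generalized character `ind_C^G (1 - λ)` for `λ` of order two (norm four)
-/

set_option autoImplicit false
set_option linter.unusedSectionVars false
set_option linter.style.haveILetI false

namespace Cfsg.Agent.Helper4.D8

open Cfsg Cfsg.Agent.Helper81 Cfsg.Agent.Helper82 Cfsg.Agent.Helper79 Cfsg.Agent.Helper25
open Cfsg.Agent.Helper4.BS
open scoped ComplexConjugate Classical

universe u

variable {G : Type u} [Group G] [Fintype G]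

/-- Integer vectors of squared length three. -/
theorem int_sq_sum_three {ι : Type*} [DecidableEq ι] (z : ι → ℤ) (s : Finset ι)
    (h : ∑ x ∈ s, z x ^ 2 = 3) :
    ∃ a ∈ s, ∃ b ∈ s, ∃ c ∈ s, a ≠ b ∧ a ≠ c ∧ b ≠ c ∧ (z a = 1 ∨ z a = -1) ∧
      (z b = 1 ∨ z b = -1) ∧ (z c = 1 ∨ z c = -1) ∧
      ∀ x ∈ s, x ≠ a → x ≠ b → x ≠ c → z x = 0 := by
  have hex : ∃ a ∈ s, z a ≠ 0 := by
    by_contra hno
    push Not at hno
    have : ∑ x ∈ s, z x ^ 2 = 0 := Finset.sum_eq_zero (fun x hx => by rw [hno x hx]; ring)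
    omega
  obtain ⟨a, ha, hza⟩ := hex
  have hsplit : ∑ x ∈ s, z x ^ 2 = z a ^ 2 + ∑ x ∈ s.erase a, z x ^ 2 :=
    (Finset.add_sum_erase s (fun x => z x ^ 2) ha).symm
  have hnn : 0 ≤ ∑ x ∈ s.erase a, z x ^ 2 := Finset.sum_nonneg (fun x _ => sq_nonneg _)
  have hza1 : 1 ≤ z a ^ 2 := by
    have : 0 < z a ^ 2 := by positivity
    omega
  have hza2 : z a ^ 2 = 1 := by
    have hle : z a ^ 2 ≤ 3 := by omega
    have habs : |z a| ≤ 1 := by
      by_contra hgt
      push Not at hgt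
      have h2 : 2 ≤ |z a| := hgt
      have : 4 ≤ |z a| ^ 2 := by nlinarith
      rw [sq_abs] at this
      omega
    have : z a ^ 2 ≤ 1 := by
      rw [← sq_abs]
      have h0 : 0 ≤ |z a| := abs_nonneg _
      nlinarith
    omega
  have hrest : ∑ x ∈ s.erase a, z x ^ 2 = 2 := by omega
  obtain ⟨b, hb, c, hc, hbc, hzb, hzc, h0⟩ := int_sq_sum_two z (s.erase a) hrest
  have hba : b ≠ a := (Finset.mem_erase.1 hb).1
  have hca : c ≠ a := (Finset.mem_erase.1 hc).1
  refine ⟨a, ha, b, (Finset.mem_erase.1 hb).2, c, (Finset.mem_erase.1 hc).2, hba.symm, hca.symm, hbc,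
    ?_, hzb, hzc, ?_⟩
  · have : (z a - 1) * (z a + 1) = 0 := by ring_nf; omega
    rcases mul_eq_zero.1 this with h1 | h1
    · left; omega
    · right; omega
  · intro x hx hxa hxb hxc
    exact h0 x (Finset.mem_erase.2 ⟨hxa, hx⟩) hxb hxc

section norms

variable (C : Subgroup G) [Fintype C] (lam : C →* ℂˣ) (b : G)
  (hbC : ∀ c ∈ C, b * c * b⁻¹ ∈ C)
  (hb : b ∉ C)
  (hinv : ∀ (c : G) (hc : c ∈ C), lam ⟨b * c * b⁻¹, hbC c hc⟩ = (lam ⟨c, hc⟩)⁻¹)
  (hTI : ∀ (c : G) (hc : c ∈ C), lam ⟨c, hc⟩ ≠ 1 → ∀ g : G, g * c * g⁻¹ ∈ C → g ∈ C ∨ b⁻¹ * g ∈ C)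
  (hlam : lam ≠ 1) (hsq : ∀ c : C, lam c ^ 2 = 1)

include hlam in
theorem classInner_Theta_one' : classInner (Theta C lam) (fun _ => (1 : ℂ)) = 1 := by
  unfold Theta
  rw [frobenius_reciprocity C (thetaC C lam) (χ := fun _ => (1 : ℂ)) (fun _ _ => rfl)]
  unfold classInner
  simp only [thetaC, map_one, mul_one]
  rw [Finset.sum_sub_distrib, sum_lin_eq_zero lam hlam]
  simp only [Finset.sum_const, Finset.card_univ, nsmul_eq_mul, mul_one, sub_zero]
  rw [← Nat.card_eq_fintype_card]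
  exact inv_mul_cancel₀ (card_ne_zero' C)

include hb hinv hTI hlam hsq in
theorem classInner_Theta_Theta_four : classInner (Theta C lam) (Theta C lam) = 4 := by
  have hcf : IsClassFunction G (Theta C lam) := indFun_isClassFunction C _
  have h1 : classInner (Theta C lam) (Theta C lam) =
      classInner (thetaC C lam) (fun h : C => Theta C lam h) := by
    exact frobenius_reciprocity C (thetaC C lam) hcf
  rw [h1]
  unfold classInner
  have hterm : ∀ c : C, thetaC C lam c * conj (Theta C lam (c : G)) =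
      4 - 4 * ((lam c : ℂˣ) : ℂ) := by
    intro c
    by_cases hl : lam c = 1
    · simp [thetaC, hl]
    · have hv := Theta_apply_of_ne C lam b hbC hb hinv hTI (c : G) c.2 hl
      have hc2 : ((lam c : ℂˣ) : ℂ) ^ 2 = 1 := by
        have := congrArg (fun u : ℂˣ => (u : ℂ)) (hsq c)
        simpa using this
      have hcm : ((lam c : ℂˣ) : ℂ) = -1 := by
        rcases sq_eq_one_iff.mp hc2 with h | h
        · exfalso; apply hl; exact Units.ext h
        · exact h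
      have hcinv : (((lam c)⁻¹ : ℂˣ) : ℂ) = -1 := by
        rw [Units.val_inv_eq_inv_val, hcm]; norm_num
      have : (⟨(c : G), c.2⟩ : C) = c := rfl
      rw [hv, this, hcm, hcinv]
      simp only [thetaC, hcm]
      have h4 : (starRingEnd ℂ) (2 - -1 - -1 : ℂ) = 4 := by
        have : (2 - -1 - -1 : ℂ) = ((4 : ℕ) : ℂ) := by norm_num
        rw [this, Complex.conj_natCast]; norm_num
      rw [h4]; norm_num
  simp_rw [hterm]
  rw [Finset.sum_sub_distrib, ← Finset.mul_sum, sum_lin_eq_zero lam hlam]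
  simp only [Finset.sum_const, Finset.card_univ, nsmul_eq_mul, mul_zero, sub_zero]
  rw [← Nat.card_eq_fintype_card]
  have := card_ne_zero' C
  field_simp

end norms

/-- A generalized character of norm four containing the trivial character once is
`1 ± χ₁ ± χ₂ ± χ₃`. -/
theorem exists_triple {Θ : G → ℂ} (hΘ : IsGeneralizedCharacter G Θ) (h4 : classInner Θ Θ = 4)
    (h1 : classInner Θ (fun _ => (1 : ℂ)) = 1) :
    ∃ (X₁ X₂ X₃ : IrrCharacter G) (z₁ z₂ z₃ : ℤ), X₁ ≠ X₂ ∧ X₁ ≠ X₃ ∧ X₂ ≠ X₃ ∧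
      X₁ ≠ trivChar G ∧ X₂ ≠ trivChar G ∧ X₃ ≠ trivChar G ∧
      (z₁ = 1 ∨ z₁ = -1) ∧ (z₂ = 1 ∨ z₂ = -1) ∧ (z₃ = 1 ∨ z₃ = -1) ∧
      ∀ g : G, Θ g = 1 + (z₁ : ℂ) * (X₁ : G → ℂ) g + (z₂ : ℂ) * (X₂ : G → ℂ) g +
        (z₃ : ℂ) * (X₃ : G → ℂ) g := by
  classical
  haveI : Fintype (IrrCharacter G) := @Fintype.ofFinite _ Helper81.irr_finite
  obtain ⟨z, rfl⟩ := genChar_int_decomp hΘ
  set t : IrrCharacter G := trivChar G with ht
  have htf : ((t : IrrCharacter G) : G → ℂ) = fun _ => (1 : ℂ) := by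
    funext g; rw [ht, trivChar_apply]
  rw [classInner_int_comb] at h4
  rw [← htf, classInner_nat_decomp (fun χ' => (z χ' : ℂ)) t] at h1
  have hzt : z t = 1 := by exact_mod_cast h1
  have h4' : ∑ χ : IrrCharacter G, z χ ^ 2 = 4 := by
    have : ((∑ χ : IrrCharacter G, z χ * z χ : ℤ) : ℂ) = ((4 : ℤ) : ℂ) := by simpa using h4
    have h5 := Int.cast_injective this
    rw [← h5]
    exact Finset.sum_congr rfl (fun χ _ => sq (z χ))
  have h3' : ∑ χ ∈ Finset.univ.erase t, z χ ^ 2 = 3 := by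
    have := Finset.add_sum_erase Finset.univ (fun χ => z χ ^ 2) (Finset.mem_univ t)
    rw [hzt] at this
    omega
  obtain ⟨a, ha, b, hb, c, hc, hab, hac, hbc, hza, hzb, hzc, hz0⟩ :=
    int_sq_sum_three z (Finset.univ.erase t) h3'
  have hat : a ≠ t := (Finset.mem_erase.1 ha).1
  have hbt : b ≠ t := (Finset.mem_erase.1 hb).1
  have hct : c ≠ t := (Finset.mem_erase.1 hc).1
  refine ⟨a, b, c, z a, z b, z c, hab, hac, hbc, hat, hbt, hct, hza, hzb, hzc, ?_⟩
  have hsum : ∑ χ, (z χ : ℂ) • (χ : G → ℂ) =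
      (t : G → ℂ) + (z a : ℂ) • (a : G → ℂ) + (z b : ℂ) • (b : G → ℂ) + (z c : ℂ) • (c : G → ℂ) := by
    rw [← Finset.add_sum_erase _ _ (Finset.mem_univ t), hzt, Int.cast_one, one_smul, add_assoc,
      add_assoc]
    congr 1
    rw [← Finset.add_sum_erase _ _ ha]
    congr 1
    have hb' : b ∈ (Finset.univ.erase t).erase a := Finset.mem_erase.2 ⟨hab.symm, hb⟩
    rw [← Finset.add_sum_erase _ _ hb']
    congr 1
    rw [Finset.sum_eq_single c]
    · intro d hd hdc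
      have hd1 := (Finset.mem_erase.1 hd).1
      have hd2 := (Finset.mem_erase.1 (Finset.mem_erase.1 hd).2).1
      have hd3 := (Finset.mem_erase.1 (Finset.mem_erase.1 hd).2).2
      rw [hz0 d hd3 hd2 hd1 hdc]; simp
    · intro h
      exact absurd (Finset.mem_erase.2 ⟨hbc.symm, Finset.mem_erase.2 ⟨hac.symm, hc⟩⟩) h
  intro g
  rw [hsum]
  simp only [Pi.add_apply, Pi.smul_apply, smul_eq_mul, htf]

end Cfsg.Agent.Helper4.D8
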