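import Mathlib
import Cfsg.Agent.Lib.Helper4.D8.Local2
import Cfsg.Agent.Lib.Helper4.D8.ThetaFour
import Cfsg.Agent.Lib.Helper79.Orthogonality
import Cfsg.Agent.Lib.Helper79.LinearDeg

/-!
# Groups with an involution whose centralizer is dihedral of order 8: character values
-/

set_option autoImplicit false
set_option linter.unusedSectionVars false
set_option linter.style.haveILetI false

namespace Cfsg.Agent.Helper4.D8

open Cfsg Cfsg.Agent.Helper81 Cfsg.Agent.Helper82 Cfsg.Agent.Helper79 Cfsg.Agent.Helper25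
open Cfsg.Agent.Helper4.BS
open DihedralGroup
open scoped ComplexConjugate Classical

universe u

theorem beta0_of_sq : ∀ i : ZMod 4, (r i : DihedralGroup 4) * r i = 1 → beta0 (r i) = 1 := by decide

theorem r3_eq : (r 3 : DihedralGroup 4) = sr 0 * r 1 * (sr 0)⁻¹ := by decide

/-- splitting off four terms of a finite sum -/
theorem sum_four {ι M : Type*} [Fintype ι] [DecidableEq ι] [AddCommMonoid M] (f : ι → M)
    (a b c d : ι) (hab : a ≠ b) (hac : a ≠ c) (had : a ≠ d) (hbc : b ≠ c) (hbd : b ≠ d)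
    (hcd : c ≠ d) :
    ∑ i, f i = f a + (f b + (f c + (f d +
      ∑ i ∈ (((Finset.univ.erase a).erase b).erase c).erase d, f i))) := by
  have hb : b ∈ Finset.univ.erase a := Finset.mem_erase.2 ⟨hab.symm, Finset.mem_univ _⟩
  have hc : c ∈ (Finset.univ.erase a).erase b :=
    Finset.mem_erase.2 ⟨hbc.symm, Finset.mem_erase.2 ⟨hac.symm, Finset.mem_univ _⟩⟩
  have hd : d ∈ ((Finset.univ.erase a).erase b).erase c :=
    Finset.mem_erase.2 ⟨hcd.symm, Finset.mem_erase.2 ⟨hbd.symm,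
      Finset.mem_erase.2 ⟨had.symm, Finset.mem_univ _⟩⟩⟩
  rw [← Finset.add_sum_erase _ _ (Finset.mem_univ a), ← Finset.add_sum_erase _ _ hb,
    ← Finset.add_sum_erase _ _ hc, ← Finset.add_sum_erase _ _ hd]

theorem mem_rest_iff {ι : Type*} [Fintype ι] [DecidableEq ι] (a b c d i : ι) :
    i ∈ (((Finset.univ.erase a).erase b).erase c).erase d ↔ i ≠ a ∧ i ≠ b ∧ i ≠ c ∧ i ≠ d := by
  simp only [Finset.mem_erase, Finset.mem_univ, and_true]
  tauto

/-- sums over `D₈` -/
theorem sum_d8 {M : Type*} [AddCommMonoid M] (F : DihedralGroup 4 → M) :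
    ∑ q, F q = F (r 0) + F (r 1) + F (r 2) + F (r 3) + F (sr 0) + F (sr 1) + F (sr 2) + F (sr 3) := by
  rw [univ_d8, Finset.sum_insert (by decide), Finset.sum_insert (by decide),
    Finset.sum_insert (by decide), Finset.sum_insert (by decide), Finset.sum_insert (by decide),
    Finset.sum_insert (by decide), Finset.sum_insert (by decide), Finset.sum_singleton]
  simp only [add_assoc]

theorem beta0_vals : beta0 (r 0) = 1 ∧ beta0 (r 1) = -1 ∧ beta0 (r 2) = 1 ∧ beta0 (r 3) = -1 ∧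
    beta0 (sr 0) = 1 ∧ beta0 (sr 1) = -1 ∧ beta0 (sr 2) = 1 ∧ beta0 (sr 3) = -1 := by decide

/-- the values of four characters from a norm computation -/
theorem values_of_norm {ι : Type*} [Fintype ι] [DecidableEq ι] (f : ι → ℂ) (a b c d : ι)
    (hab : a ≠ b) (hac : a ≠ c) (had : a ≠ d) (hbc : b ≠ c) (hbd : b ≠ d) (hcd : c ≠ d)
    (z₁ z₂ z₃ : ℤ) (hz₁ : z₁ = 1 ∨ z₁ = -1) (hz₂ : z₂ = 1 ∨ z₂ = -1) (hz₃ : z₃ = 1 ∨ z₃ = -1)
    (hfa : f a = 1)
    (hval : 1 + (z₁ : ℂ) * f b + (z₂ : ℂ) * f c + (z₃ : ℂ) * f d = 4)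
    (hnorm : ∑ i, Complex.normSq (f i) = 4) :
    f b = z₁ ∧ f c = z₂ ∧ f d = z₃ ∧ ∀ i, i ≠ a → i ≠ b → i ≠ c → i ≠ d → f i = 0 := by
  rw [sum_four (fun i => Complex.normSq (f i)) a b c d hab hac had hbc hbd hcd] at hnorm
  set rest := ∑ i ∈ (((Finset.univ.erase a).erase b).erase c).erase d, Complex.normSq (f i)
    with hrest
  have hrest0 : 0 ≤ rest := Finset.sum_nonneg (fun i _ => Complex.normSq_nonneg _)
  simp only [hfa, Complex.normSq_one] at hnorm
  have hre := congrArg Complex.re hval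
  simp only [Complex.add_re, Complex.one_re, Complex.mul_re, Complex.intCast_re,
    Complex.intCast_im, zero_mul, sub_zero] at hre
  have hre4 : (4 : ℂ).re = 4 := by norm_num
  rw [hre4] at hre
  have e₁ : ((z₁ : ℤ) : ℝ) ^ 2 = 1 := by rcases hz₁ with rfl | rfl <;> norm_num
  have e₂ : ((z₂ : ℤ) : ℝ) ^ 2 = 1 := by rcases hz₂ with rfl | rfl <;> norm_num
  have e₃ : ((z₃ : ℤ) : ℝ) ^ 2 = 1 := by rcases hz₃ with rfl | rfl <;> norm_num
  have key : ((f b).re - z₁) ^ 2 + (f b).im ^ 2 + (((f c).re - z₂) ^ 2 + (f c).im ^ 2) +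
      (((f d).re - z₃) ^ 2 + (f d).im ^ 2) + rest = 0 := by
    simp only [Complex.normSq_apply] at hnorm
    linear_combination hnorm - 2 * hre + e₁ + e₂ + e₃
  have p₁ := sq_nonneg ((f b).re - z₁)
  have p₂ := sq_nonneg (f b).im
  have p₃ := sq_nonneg ((f c).re - z₂)
  have p₄ := sq_nonneg (f c).im
  have p₅ := sq_nonneg ((f d).re - z₃)
  have p₆ := sq_nonneg (f d).im
  have q₁ : ((f b).re - z₁) ^ 2 = 0 := by linarith
  have q₂ : (f b).im ^ 2 = 0 := by linarith
  have q₃ : ((f c).re - z₂) ^ 2 = 0 := by linarith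
  have q₄ : (f c).im ^ 2 = 0 := by linarith
  have q₅ : ((f d).re - z₃) ^ 2 = 0 := by linarith
  have q₆ : (f d).im ^ 2 = 0 := by linarith
  have q₇ : rest = 0 := by linarith
  have s₁ := pow_eq_zero_iff (n := 2) (by norm_num) |>.mp q₁
  have s₂ := pow_eq_zero_iff (n := 2) (by norm_num) |>.mp q₂
  have s₃ := pow_eq_zero_iff (n := 2) (by norm_num) |>.mp q₃
  have s₄ := pow_eq_zero_iff (n := 2) (by norm_num) |>.mp q₄
  have s₅ := pow_eq_zero_iff (n := 2) (by norm_num) |>.mp q₅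
  have s₆ := pow_eq_zero_iff (n := 2) (by norm_num) |>.mp q₆
  refine ⟨?_, ?_, ?_, ?_⟩
  · apply Complex.ext
    · rw [Complex.intCast_re]; linarith
    · rw [Complex.intCast_im]; exact s₂
  · apply Complex.ext
    · rw [Complex.intCast_re]; linarith
    · rw [Complex.intCast_im]; exact s₄
  · apply Complex.ext
    · rw [Complex.intCast_re]; linarith
    · rw [Complex.intCast_im]; exact s₆
  · intro i hia hib hic hid
    have hi : i ∈ (((Finset.univ.erase a).erase b).erase c).erase d :=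
      (mem_rest_iff a b c d i).mpr ⟨hia, hib, hic, hid⟩
    have := (Finset.sum_eq_zero_iff_of_nonneg (fun i _ => Complex.normSq_nonneg (f i))).mp q₇ i hi
    exact Complex.normSq_eq_zero.mp this

section

variable {G : Type u} [Group G] [Fintype G]

/-- column orthogonality, with norms -/
theorem col_normSq (g : G) :
    ∑ χ : IrrCharacter G, Complex.normSq ((χ : G → ℂ) g) =
      (Nat.card (Subgroup.centralizer ({g} : Set G)) : ℝ) := by
  apply Complex.ofReal_injective
  push_cast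
  rw [← col_orth_self g]
  apply Finset.sum_congr rfl
  intro χ _
  rw [Complex.mul_conj]

/-- a nontrivial irreducible character of a perfect group has degree at least two -/
theorem two_le_degree (hperf : commutator G = ⊤) (χ : IrrCharacter G) (hχ : χ ≠ trivChar G) :
    ∃ n : ℕ, 2 ≤ n ∧ (χ : G → ℂ) 1 = (n : ℂ) := by
  obtain ⟨n, hn, h1⟩ := irr_degree_pos χ.2
  refine ⟨n, ?_, h1⟩
  by_contra hlt
  have hn1 : n = 1 := by omega
  subst hn1
  have hdeg : charDegree (χ : G → ℂ) = 1 := by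
    unfold charDegree
    rw [h1]; simp
  have hle := (degree_one_iff χ).mp hdeg
  rw [hperf] at hle
  apply hχ
  apply Subtype.ext
  funext g
  have hg : g ∈ irrKer χ := hle (Subgroup.mem_top g)
  rw [mem_irrKer] at hg
  rw [hg, h1, trivChar_apply]; simp

end

section

variable {G : Type u} [Group G] [Fintype G] (t : G)
  (e : Subgroup.centralizer ({t} : Set G) ≃* DihedralGroup 4)

/-- the exceptional generalized character -/
noncomputable def Th : G → ℂ := Theta (Subgroup.zpowers (cc t e)) (lam t e)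

theorem Th_one : Th t e 1 = 0 := Theta_one _ _

theorem lam_cc_ne_one : lam t e ⟨cc t e, Subgroup.mem_zpowers _⟩ ≠ 1 := by
  intro h
  have := lam_cc t e
  rw [h] at this
  norm_num at this

theorem Th_cc (ht : t ≠ 1) : Th t e (cc t e) = 4 := by
  unfold Th
  rw [Theta_apply_of_ne _ (lam t e) (bb t e) (bb_conj_mem t e) (bb_not_mem t e) (lam_inv t e)
    (ti t e ht) (cc t e) (Subgroup.mem_zpowers _) (lam_cc_ne_one t e)]
  rw [Units.val_inv_eq_inv_val, lam_cc]
  norm_num

theorem lam_eq_one_of_sq (x : G) (hx : x ∈ Subgroup.zpowers (cc t e)) (hxx : x * x = 1) :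
    lam t e ⟨x, hx⟩ = 1 := by
  obtain ⟨i, rfl⟩ := (mem_zpowers_cc_iff t e x).mp hx
  rw [lam_phi]
  have h1 : (r i : DihedralGroup 4) * r i = 1 := by
    apply phi_injective t e
    rw [map_mul, hxx, map_one]
  rw [beta0_of_sq i h1, map_one]

theorem Th_t (htt : t * t = 1) : Th t e t = 0 := by
  unfold Th
  apply Theta_eq_zero
  intro x hx
  apply lam_eq_one_of_sq
  calc x⁻¹ * t * x * (x⁻¹ * t * x) = x⁻¹ * (t * t) * x := by group
    _ = 1 := by rw [htt]; group

theorem exists_chars (ht : t ≠ 1) :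
    ∃ (X₁ X₂ X₃ : IrrCharacter G) (z₁ z₂ z₃ : ℤ), X₁ ≠ X₂ ∧ X₁ ≠ X₃ ∧ X₂ ≠ X₃ ∧
      X₁ ≠ trivChar G ∧ X₂ ≠ trivChar G ∧ X₃ ≠ trivChar G ∧
      (z₁ = 1 ∨ z₁ = -1) ∧ (z₂ = 1 ∨ z₂ = -1) ∧ (z₃ = 1 ∨ z₃ = -1) ∧
      ∀ g : G, Th t e g = 1 + (z₁ : ℂ) * (X₁ : G → ℂ) g + (z₂ : ℂ) * (X₂ : G → ℂ) g +
        (z₃ : ℂ) * (X₃ : G → ℂ) g := by
  apply exists_triple
  · exact isGeneralizedCharacter_Theta _ _
  · exact classInner_Theta_Theta_four _ (lam t e) (bb t e) (bb_conj_mem t e) (bb_not_mem t e)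
      (lam_inv t e) (ti t e ht) (lam_ne_one' t e) (lam_sq t e)
  · exact classInner_Theta_one' _ (lam t e) (lam_ne_one' t e)

theorem psiD_symm (q : DihedralGroup 4) :
    ((psiD t e (e.symm q) : ℂˣ) : ℂ) = (((beta0 q : ℤˣ) : ℤ) : ℂ) := by
  simp [psiD]

/-- integrality of the restriction to the centralizer -/
theorem restrict_int (hperf : commutator G = ⊤) (ht2 : orderOf t = 2) (χ : IrrCharacter G) :
    ∃ k₁ k₂ : ℤ,
      (χ : G → ℂ) 1 + 2 * (χ : G → ℂ) (cc t e) + 5 * (χ : G → ℂ) t = 8 * (k₁ : ℂ) ∧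
      (χ : G → ℂ) 1 - 2 * (χ : G → ℂ) (cc t e) + (χ : G → ℂ) t = 8 * (k₂ : ℂ) := by
  have ht : t ≠ 1 := by
    intro h; rw [h, orderOf_one] at ht2; omega
  haveI : Fintype (Subgroup.centralizer ({t} : Set G)) := Fintype.ofFinite _
  have hχc := IsIrrCharacter.isCharacter χ.2
  have hcf : IsClassFunction G (χ : G → ℂ) := isClassFunction_of_isCharacter hχc
  have hres := isGeneralizedCharacter_of_isCharacter
    (isCharacter_restrict (Subgroup.centralizer ({t} : Set G)) hχc)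
  have htriv := isGeneralizedCharacter_of_isCharacter
    (IsIrrCharacter.isCharacter (trivChar (Subgroup.centralizer ({t} : Set G))).2)
  have hbeta := isGeneralizedCharacter_of_isCharacter
    (IsIrrCharacter.isCharacter (Helper79.linChar (psiD t e)).2)
  obtain ⟨k₁, hk₁⟩ := genChar_inner_int hres htriv
  obtain ⟨k₂, hk₂⟩ := genChar_inner_int hres hbeta
  have h0 : (χ : G → ℂ) (phi t e (r 0)) = (χ : G → ℂ) 1 := by
    have : phi t e (r 0) = 1 := map_one (phi t e)
    rw [this]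
  have h1 : (χ : G → ℂ) (phi t e (r 1)) = (χ : G → ℂ) (cc t e) := rfl
  have h2 : (χ : G → ℂ) (phi t e (r 2)) = (χ : G → ℂ) t := by rw [phi_r2 t e ht]
  have h3 : (χ : G → ℂ) (phi t e (r 3)) = (χ : G → ℂ) (cc t e) := by
    rw [r3_eq, map_mul, map_mul, map_inv]
    exact hcf _ _
  have hs : ∀ i : ZMod 4, (χ : G → ℂ) (phi t e (sr i)) = (χ : G → ℂ) t := by
    intro i
    obtain ⟨g, hg⟩ := isConj_iff.mp (isConj_phi_sr t e hperf ht2 i)
    rw [← hg]
    exact hcf t g
  obtain ⟨b0, b1, b2, b3, b4, b5, b6, b7⟩ := beta0_vals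
  refine ⟨k₁, k₂, ?_, ?_⟩
  · unfold classInner at hk₁
    rw [card_centralizer t e, ← Equiv.sum_comp e.symm.toEquiv] at hk₁
    have hterm : ∀ q : DihedralGroup 4,
        (χ : G → ℂ) ((e.symm.toEquiv q : Subgroup.centralizer ({t} : Set G)) : G) *
          conj ((trivChar (Subgroup.centralizer ({t} : Set G)) :
            Subgroup.centralizer ({t} : Set G) → ℂ) (e.symm.toEquiv q)) =
        (χ : G → ℂ) (phi t e q) := by
      intro q
      rw [trivChar_apply, map_one, mul_one]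
      rfl
    simp_rw [hterm] at hk₁
    rw [sum_d8, h0, h1, h2, h3, hs, hs, hs, hs] at hk₁
    push_cast at hk₁
    linear_combination 8 * hk₁
  · unfold classInner at hk₂
    rw [card_centralizer t e, ← Equiv.sum_comp e.symm.toEquiv] at hk₂
    have hterm : ∀ q : DihedralGroup 4,
        (χ : G → ℂ) ((e.symm.toEquiv q : Subgroup.centralizer ({t} : Set G)) : G) *
          conj ((Helper79.linChar (psiD t e) : Subgroup.centralizer ({t} : Set G) → ℂ)
            (e.symm.toEquiv q)) =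
        (χ : G → ℂ) (phi t e q) * (((beta0 q : ℤˣ) : ℤ) : ℂ) := by
      intro q
      rw [Helper79.linChar_apply]
      have : ((psiD t e (e.symm.toEquiv q) : ℂˣ) : ℂ) = (((beta0 q : ℤˣ) : ℤ) : ℂ) :=
        psiD_symm t e q
      rw [this, map_intCast]
      rfl
    simp_rw [hterm] at hk₂
    rw [sum_d8, h0, h1, h2, h3, hs, hs, hs, hs, b0, b1, b2, b3, b4, b5, b6, b7] at hk₂
    push_cast at hk₂
    linear_combination 8 * hk₂

end

end Cfsg.Agent.Helper4.D8
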