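import Mathlib
import Cfsg.Agent.Lib.Helper4.D8.Chars
import Cfsg.Agent.Lib.Helper4.D8.Arith
import Cfsg.Agent.S0840

/-!
# Groups with an involution whose centralizer is dihedral of order 8: the order
-/

set_option autoImplicit false
set_option linter.unusedSectionVars false
set_option linter.style.haveILetI false

namespace Cfsg.Agent.Helper4.D8

open Cfsg Cfsg.Agent.Helper81 Cfsg.Agent.Helper82 Cfsg.Agent.Helper79 Cfsg.Agent.Helper25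
open Cfsg.Agent.Helper4.BS
open DihedralGroup
open scoped ComplexConjugate Classical

universe u

theorem odd_small (x k z : ℤ) (hz : z = 1 ∨ z = -1) (hx : x = 2 * k - z) (h : x ^ 2 ≤ 7) :
    x = 1 ∨ x = -1 := by
  have h1 : -2 ≤ x := by nlinarith
  have h2 : x ≤ 2 := by nlinarith
  rcases hz with rfl | rfl <;> omega

section

variable {G : Type u} [Group G] [Fintype G]

theorem centralizer_one_card : Nat.card (Subgroup.centralizer ({1} : Set G)) = Nat.card G := by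
  have : Subgroup.centralizer ({1} : Set G) = ⊤ := by
    rw [Subgroup.centralizer_eq_top_iff_subset]
    intro x hx
    rw [Set.mem_singleton_iff] at hx
    rw [hx]; exact Subgroup.one_mem _
  rw [this, Subgroup.card_top]

variable (t : G) (e : Subgroup.centralizer ({t} : Set G) ≃* DihedralGroup 4)

include e in
/-- Isaacs, Character Theory, Theorem 7.10 -/
theorem card_eq (hperf : commutator G = ⊤) (ht2 : orderOf t = 2) :
    Nat.card G = 168 ∨ Nat.card G = 360 := by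
  have ht : t ≠ 1 := by
    intro h; rw [h, orderOf_one] at ht2; omega
  have htt : t * t = 1 := by
    rw [← pow_two, ← ht2]; exact pow_orderOf_eq_one t
  obtain ⟨X₁, X₂, X₃, z₁, z₂, z₃, h12, h13, h23, h1t, h2t, h3t, hz₁, hz₂, hz₃, hTh⟩ :=
    exists_chars t e ht
  obtain ⟨d₁, hd₁, hX₁⟩ := two_le_degree hperf X₁ h1t
  obtain ⟨d₂, hd₂, hX₂⟩ := two_le_degree hperf X₂ h2t
  obtain ⟨d₃, hd₃, hX₃⟩ := two_le_degree hperf X₃ h3t
  -- values at `c`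
  have hnormc : ∑ χ : IrrCharacter G, Complex.normSq ((χ : G → ℂ) (cc t e)) = 4 := by
    rw [col_normSq, centralizer_cc t e ht, Nat.card_zpowers, orderOf_cc]; norm_num
  have hvalc : 1 + (z₁ : ℂ) * (X₁ : G → ℂ) (cc t e) + (z₂ : ℂ) * (X₂ : G → ℂ) (cc t e) +
      (z₃ : ℂ) * (X₃ : G → ℂ) (cc t e) = 4 := by
    rw [← hTh, Th_cc t e ht]
  obtain ⟨hc₁, hc₂, hc₃, hc0⟩ := values_of_norm
    (fun χ : IrrCharacter G => (χ : G → ℂ) (cc t e)) (trivChar G) X₁ X₂ X₃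
    (Ne.symm h1t) (Ne.symm h2t) (Ne.symm h3t) h12 h13 h23 z₁ z₂ z₃ hz₁ hz₂ hz₃
    (trivChar_apply _) hvalc hnormc
  -- values at `t`
  obtain ⟨k₁, k₁', hk₁, hk₁'⟩ := restrict_int t e hperf ht2 X₁
  obtain ⟨k₂, k₂', hk₂, hk₂'⟩ := restrict_int t e hperf ht2 X₂
  obtain ⟨k₃, k₃', hk₃, hk₃'⟩ := restrict_int t e hperf ht2 X₃
  rw [hX₁, hc₁] at hk₁ hk₁'
  rw [hX₂, hc₂] at hk₂ hk₂'
  rw [hX₃, hc₃] at hk₃ hk₃'
  obtain ⟨x₁, hx₁def⟩ : ∃ x₁ : ℤ, x₁ = 2 * (k₁ - k₁') - z₁ := ⟨_, rfl⟩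
  obtain ⟨x₂, hx₂def⟩ : ∃ x₂ : ℤ, x₂ = 2 * (k₂ - k₂') - z₂ := ⟨_, rfl⟩
  obtain ⟨x₃, hx₃def⟩ : ∃ x₃ : ℤ, x₃ = 2 * (k₃ - k₃') - z₃ := ⟨_, rfl⟩
  have hx₁ : (X₁ : G → ℂ) t = (x₁ : ℂ) := by
    rw [hx₁def]; push_cast; linear_combination (hk₁ - hk₁') / 4
  have hx₂ : (X₂ : G → ℂ) t = (x₂ : ℂ) := by
    rw [hx₂def]; push_cast; linear_combination (hk₂ - hk₂') / 4
  have hx₃ : (X₃ : G → ℂ) t = (x₃ : ℂ) := by
    rw [hx₃def]; push_cast; linear_combination (hk₃ - hk₃') / 4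
  rw [hx₁] at hk₁'
  rw [hx₂] at hk₂'
  rw [hx₃] at hk₃'
  have h8₁ : (8 : ℤ) ∣ (d₁ : ℤ) + x₁ - 2 * z₁ := by
    refine ⟨k₁', ?_⟩
    have : (((d₁ : ℤ) + x₁ - 2 * z₁ : ℤ) : ℂ) = ((8 * k₁' : ℤ) : ℂ) := by
      push_cast; linear_combination hk₁'
    exact_mod_cast this
  have h8₂ : (8 : ℤ) ∣ (d₂ : ℤ) + x₂ - 2 * z₂ := by
    refine ⟨k₂', ?_⟩
    have : (((d₂ : ℤ) + x₂ - 2 * z₂ : ℤ) : ℂ) = ((8 * k₂' : ℤ) : ℂ) := by
      push_cast; linear_combination hk₂'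
    exact_mod_cast this
  have h8₃ : (8 : ℤ) ∣ (d₃ : ℤ) + x₃ - 2 * z₃ := by
    refine ⟨k₃', ?_⟩
    have : (((d₃ : ℤ) + x₃ - 2 * z₃ : ℤ) : ℂ) = ((8 * k₃' : ℤ) : ℂ) := by
      push_cast; linear_combination hk₃'
    exact_mod_cast this
  -- the norm at `t`
  have hnormt : ∑ χ : IrrCharacter G, Complex.normSq ((χ : G → ℂ) t) = 8 := by
    rw [col_normSq, card_centralizer t e]; norm_num
  rw [sum_four (fun χ : IrrCharacter G => Complex.normSq ((χ : G → ℂ) t)) (trivChar G) X₁ X₂ X₃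
    (Ne.symm h1t) (Ne.symm h2t) (Ne.symm h3t) h12 h13 h23] at hnormt
  have hrestt : 0 ≤ ∑ i ∈ (((Finset.univ.erase (trivChar G)).erase X₁).erase X₂).erase X₃,
      Complex.normSq ((i : G → ℂ) t) := Finset.sum_nonneg (fun i _ => Complex.normSq_nonneg _)
  simp only [trivChar_apply, hx₁, hx₂, hx₃, Complex.normSq_one, Complex.normSq_intCast] at hnormt
  have hxsq : x₁ ^ 2 + x₂ ^ 2 + x₃ ^ 2 ≤ 7 := by
    have : ((x₁ : ℝ) ^ 2 + (x₂ : ℝ) ^ 2 + (x₃ : ℝ) ^ 2 : ℝ) ≤ 7 := by nlinarith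
    exact_mod_cast this
  have hxx₁ : x₁ = 1 ∨ x₁ = -1 :=
    odd_small x₁ (k₁ - k₁') z₁ hz₁ hx₁def (by nlinarith [sq_nonneg x₂, sq_nonneg x₃])
  have hxx₂ : x₂ = 1 ∨ x₂ = -1 :=
    odd_small x₂ (k₂ - k₂') z₂ hz₂ hx₂def (by nlinarith [sq_nonneg x₁, sq_nonneg x₃])
  have hxx₃ : x₃ = 1 ∨ x₃ = -1 :=
    odd_small x₃ (k₃ - k₃') z₃ hz₃ hx₃def (by nlinarith [sq_nonneg x₁, sq_nonneg x₂])
  -- `Θ(t) = 0` and `Θ(1) = 0`
  have hval : 1 + z₁ * x₁ + z₂ * x₂ + z₃ * x₃ = 0 := by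
    have := hTh t
    rw [Th_t t e htt, hx₁, hx₂, hx₃] at this
    exact_mod_cast this.symm
  have hdeg : 1 + z₁ * (d₁ : ℤ) + z₂ * (d₂ : ℤ) + z₃ * (d₃ : ℤ) = 0 := by
    have := hTh 1
    rw [Th_one, hX₁, hX₂, hX₃] at this
    exact_mod_cast this.symm
  -- the sum of squares of the degrees
  have hsum : 1 + (d₁ : ℤ) ^ 2 + (d₂ : ℤ) ^ 2 + (d₃ : ℤ) ^ 2 ≤ (Nat.card G : ℤ) := by
    have hnorm1 : ∑ χ : IrrCharacter G, Complex.normSq ((χ : G → ℂ) 1) = (Nat.card G : ℝ) := by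
      rw [col_normSq, centralizer_one_card]
    rw [sum_four (fun χ : IrrCharacter G => Complex.normSq ((χ : G → ℂ) 1)) (trivChar G) X₁ X₂ X₃
      (Ne.symm h1t) (Ne.symm h2t) (Ne.symm h3t) h12 h13 h23] at hnorm1
    have hrest1 : 0 ≤ ∑ i ∈ (((Finset.univ.erase (trivChar G)).erase X₁).erase X₂).erase X₃,
        Complex.normSq ((i : G → ℂ) 1) := Finset.sum_nonneg (fun i _ => Complex.normSq_nonneg _)
    simp only [trivChar_apply, hX₁, hX₂, hX₃, Complex.normSq_one, Complex.normSq_natCast]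
      at hnorm1
    have : (1 + (d₁ : ℝ) ^ 2 + (d₂ : ℝ) ^ 2 + (d₃ : ℝ) ^ 2 : ℝ) ≤ (Nat.card G : ℝ) := by nlinarith
    exact_mod_cast this
  -- class multiplication
  have hmul := Cfsg.Agent.S0840.result t t (cc t e)
  rw [card_pairs t e hperf ht2, finsum_eq_sum_of_fintype,
    sum_four (fun χ : IrrCharacter G => (χ : G → ℂ) t * (χ : G → ℂ) t *
      conj ((χ : G → ℂ) (cc t e)) / (χ : G → ℂ) 1) (trivChar G) X₁ X₂ X₃
    (Ne.symm h1t) (Ne.symm h2t) (Ne.symm h3t) h12 h13 h23] at hmul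
  have hrest : ∑ i ∈ (((Finset.univ.erase (trivChar G)).erase X₁).erase X₂).erase X₃,
      (i : G → ℂ) t * (i : G → ℂ) t * conj ((i : G → ℂ) (cc t e)) / (i : G → ℂ) 1 = 0 := by
    apply Finset.sum_eq_zero
    intro i hi
    obtain ⟨hia, hib, hic, hid⟩ := (mem_rest_iff _ _ _ _ i).mp hi
    rw [hc0 i hia hib hic hid, map_zero, mul_zero, zero_div]
  rw [hrest] at hmul
  simp only [trivChar_apply, hx₁, hx₂, hx₃, hc₁, hc₂, hc₃, hX₁, hX₂, hX₃, map_intCast, map_one,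
    add_zero] at hmul
  have hK := Cfsg.Agent.S0840.card_class_mul_card_centralizer t
  rw [card_centralizer t e] at hK
  have hKc : (Nat.card {x : G // IsConj t x} : ℂ) * 8 = (Nat.card G : ℂ) := by exact_mod_cast hK
  have hK0 : (Nat.card {x : G // IsConj t x} : ℂ) ≠ 0 := by
    haveI : Nonempty {x : G // IsConj t x} := ⟨⟨t, IsConj.refl t⟩⟩
    have : 0 < Nat.card {x : G // IsConj t x} := Nat.card_pos
    exact_mod_cast this.ne'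
  have hd₁0 : (d₁ : ℂ) ≠ 0 := by
    have : 0 < d₁ := by omega
    exact_mod_cast this.ne'
  have hd₂0 : (d₂ : ℂ) ≠ 0 := by
    have : 0 < d₂ := by omega
    exact_mod_cast this.ne'
  have hd₃0 : (d₃ : ℂ) ≠ 0 := by
    have : 0 < d₃ := by omega
    exact_mod_cast this.ne'
  have hxc₁ : (x₁ : ℂ) * (x₁ : ℂ) = 1 := by rcases hxx₁ with h | h <;> rw [h] <;> norm_num
  have hxc₂ : (x₂ : ℂ) * (x₂ : ℂ) = 1 := by rcases hxx₂ with h | h <;> rw [h] <;> norm_num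
  have hxc₃ : (x₃ : ℂ) * (x₃ : ℂ) = 1 := by rcases hxx₃ with h | h <;> rw [h] <;> norm_num
  rw [hxc₁, hxc₂, hxc₃, ← hKc] at hmul
  have hNc : (Nat.card G : ℂ) * ((d₁ : ℂ) * d₂ * d₃ + z₁ * ((d₂ : ℂ) * d₃) + z₂ * ((d₁ : ℂ) * d₃) +
      z₃ * ((d₁ : ℂ) * d₂)) = 256 * ((d₁ : ℂ) * d₂ * d₃) := by
    rw [← hKc]
    field_simp at hmul
    linear_combination (-8 : ℂ) * hmul
  have hN : (Nat.card G : ℤ) * ((d₁ : ℤ) * d₂ * d₃ + z₁ * ((d₂ : ℤ) * d₃) + z₂ * ((d₁ : ℤ) * d₃) +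
      z₃ * ((d₁ : ℤ) * d₂)) = 256 * ((d₁ : ℤ) * d₂ * d₃) := by
    exact_mod_cast hNc
  have h2₁ : (2 : ℤ) ≤ d₁ := by exact_mod_cast hd₁
  have h2₂ : (2 : ℤ) ≤ d₂ := by exact_mod_cast hd₂
  have h2₃ : (2 : ℤ) ≤ d₃ := by exact_mod_cast hd₃
  rcases arith (Nat.card G : ℤ) d₁ d₂ d₃ z₁ z₂ z₃ x₁ x₂ x₃ hz₁ hz₂ hz₃ hxx₁ hxx₂ hxx₃ hdeg hval
    h8₁ h8₂ h8₃ h2₁ h2₂ h2₃ hN hsum with h | h
  · left; exact_mod_cast h
  · right; exact_mod_cast h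

end

end Cfsg.Agent.Helper4.D8
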